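import Cfsg.Agent.OddOrder.BG12.CentDerUniq
import Cfsg.Agent.OddOrder.BG3.HallDerived
import Cfsg.Agent.Coprime.Hall
import Mathlib.GroupTheory.SpecificGroups.ZGroup

/-!
BG 12.1 and 12.17: the structure of a complement of `M_σ` in `M`, its action on `M_σ`, and the
intersections `M_σ ∩ gMg⁻¹`.
-/

set_option autoImplicit false

universe u

namespace Cfsg.Agent.OddOrder.BG11

open Subgroup H40
open scoped IsMulCommutative

variable {G : Type u} [Group G] [Finite G]

/-- A commutative subgroup all of whose Sylow subgroups are cyclic is cyclic. -/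
theorem isCyclic_of_sylowOf {X : Subgroup G} (hc : IsMulCommutative X)
    (h : ∀ (p : ℕ) [Fact p.Prime], p ∣ Nat.card X → ∀ P : Subgroup G, IsSylowOf p P X → IsCyclic P) :
    IsCyclic X := by
  haveI := hc
  haveI : IsZGroup X := ⟨fun p hp P => by
    haveI := Fact.mk hp
    by_cases hd : p ∣ Nat.card X
    · haveI := h p hd _ (isSylowOf_map P)
      exact isCyclic_of_surjective
        ((P : Subgroup X).equivMapOfInjective _ X.subtype_injective).symm
        ((P : Subgroup X).equivMapOfInjective _ X.subtype_injective).symm.surjective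
    · have h1 : Nat.card (P : Subgroup X) = 1 := by
        rw [P.card_eq_multiplicity, Nat.factorization_eq_zero_of_not_dvd hd, pow_zero]
      haveI : Subsingleton (P : Subgroup X) := (Nat.card_eq_one_iff_unique.mp h1).1
      infer_instance⟩
  infer_instance

omit [Finite G] in
theorem isMulCommutative_of_commutator_eq_bot {X : Subgroup G} (h : ⁅X, X⁆ = ⊥) :
    IsMulCommutative X :=
  ⟨⟨fun a b => Subtype.ext (mem_centralizer_iff.mp (commutator_eq_bot_iff_le_centralizer.mp h b.2) a a.2)⟩⟩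

namespace Section10

variable (S10 : Section10 G) {M E : Subgroup G}
include S10

/-- BG 12.17, the action of a complement. -/
theorem sigmaCore_compl_action (hM : IsCoatom M) (hE : Cfsg.IsComplIn E (Cfsg.sigmaCore M) M) :
    Cfsg.sigmaCore M ⊓ centralizer (E : Set G) ≤ ⁅Cfsg.sigmaCore M, Cfsg.sigmaCore M⁆ ∧
      ⁅Cfsg.sigmaCore M, E⁆ = Cfsg.sigmaCore M := by
  haveI : Group.IsSolvable M := S10.isSolvable_max hM
  set σ := Cfsg.sigmaCore M with hσ
  have hσM : σ ≤ M := map_subtype_le _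
  have hEM : E ≤ M := hE.1
  haveI hn : (σ.subgroupOf M).Normal :=
    normal_subgroupOf_of_le_normalizer (OddOrder.le_normalizer_piCoreOf (Cfsg.sigma M) M)
  obtain ⟨hH, -, -⟩ := S10.sigmaCore_hall M hM
  have hcop : (Nat.card (σ.subgroupOf M)).Coprime (σ.subgroupOf M).index :=
    Nat.coprime_of_dvd fun r hr h1 h2 => hH.2.2 r hr (hH.2.1 r hr (by
      rwa [Nat.card_congr (subgroupOfEquivOfLe hσM).toEquiv] at h1)) h2
  have hc : (σ.subgroupOf M).IsComplement' (E.subgroupOf M) := by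
    refine isComplement'_of_disjoint_and_mul_eq_univ (disjoint_iff.mpr ?_) ?_
    · exact eq_bot_iff.mpr fun x hx =>
        mem_bot.mpr (Subtype.ext (mem_bot.mp (hE.2.2.1.le ⟨hx.2, hx.1⟩)))
    · refine Set.eq_univ_iff_forall.mpr fun m => ?_
      obtain ⟨a, ha, b, hb, e⟩ := hE.2.2.2 m m.2
      refine ⟨⟨a * b * a⁻¹, M.mul_mem (M.mul_mem (hEM ha) (hσM hb)) (M.inv_mem (hEM ha))⟩, ?_,
        ⟨a, hEM ha⟩, ha, Subtype.ext ?_⟩
      · exact (mem_normalizer_iff.mp (OddOrder.le_normalizer_piCoreOf (Cfsg.sigma M) M (hEM ha)) b).mp hb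
      · show a * b * a⁻¹ * a = m
        rw [e, inv_mul_cancel_right]
  have hle : σ.subgroupOf M ≤ commutator M := fun x hx => by
    obtain ⟨y, hy, hyx⟩ := (map_subtype_commutator M).ge (S10.sigmaCore_le_derived M hM hx)
    rwa [← Subtype.ext hyx]
  obtain ⟨h1, h2⟩ := BG3.hall_eq_commutator hn hcop hc hle
  have e1 : (σ.subgroupOf M).map M.subtype = σ := map_subgroupOf_eq_of_le hσM
  have e2 : (E.subgroupOf M).map M.subtype = E := map_subgroupOf_eq_of_le hEM
  refine ⟨fun x hx => ?_, ?_⟩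
  · have h3 : (⟨x, hσM hx.1⟩ : M) ∈ ⁅σ.subgroupOf M, σ.subgroupOf M⁆ :=
      h2 ⟨hx.1, mem_centralizer_iff.mpr fun e he => Subtype.ext (mem_centralizer_iff.mp hx.2 e he)⟩
    have h4 : x ∈ (⁅σ.subgroupOf M, σ.subgroupOf M⁆).map M.subtype := ⟨_, h3, rfl⟩
    rwa [map_commutator, e1] at h4
  · have h3 := congrArg (map M.subtype) h1
    rw [map_commutator, e1, e2] at h3
    exact h3.symm

/-- BG 12.17, the intersections with the other conjugates of `M`. -/
theorem sigmaCore_inf_cj (hM : IsCoatom M) {g : G} (hg : g ∉ M) :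
    IsCyclic ↥(Cfsg.sigmaCore M ⊓ cj g M) ∧
      (∀ p : ℕ, p.Prime → p ∣ Nat.card ↥(Cfsg.sigmaCore M ⊓ cj g M) → p ∉ Cfsg.beta M) ∧
      Cfsg.sigmaCore M ⊓ cj g M ⊓ ⁅Cfsg.sigmaCore M, Cfsg.sigmaCore M⁆ = ⊥ := by
  have hG := S10.minSimple
  set σ := Cfsg.sigmaCore M with hσ
  set D := σ ⊓ cj g M with hD
  have hσM : σ ≤ M := map_subtype_le _
  have hDM : D ≤ M := inf_le_left.trans hσM
  have hDs : ∀ q : ℕ, q.Prime → q ∣ Nat.card D → q ∈ Cfsg.sigma M := fun q hq hd =>
    OddOrder.piCoreOf_isPiNumber (Cfsg.sigma M) M q hq (hd.trans (card_dvd_of_le inf_le_left))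
  have key : ∀ {q : ℕ} [Fact q.Prime] {X : Subgroup G}, q ∈ Cfsg.sigma M → IsPGroup q X → X ≠ ⊥ →
      X ≤ D → centralizer (X : Set G) ≤ M → False := by
    intro q _ X hqs hX hX1 hXD hC
    obtain ⟨m, hm, c, hc, e⟩ :=
      (S10.sigma_trans M hM q hqs X hX hX1 (hXD.trans hDM)).1 g⁻¹
        ((cj_mono g⁻¹ (hXD.trans inf_le_right)).trans (cj_inv_cj g M).le)
    exact hg (inv_mem_iff.mp (e ▸ M.mul_mem hm (hC hc)))
  have line : ∀ q : ℕ, q.Prime → ∀ Y : Subgroup G, Y ≤ D → q ∣ Nat.card Y →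
      (q ∈ Cfsg.beta M ∨ Y ≤ ⁅σ, σ⁆) → False := by
    intro q hq Y hY hd h
    haveI := Fact.mk hq
    obtain ⟨x, hx⟩ := exists_prime_orderOf_dvd_card' q hd
    have hxY : zpowers (x : G) ≤ Y := zpowers_le.mpr x.2
    have hxc : Nat.card (zpowers (x : G)) = q := by rw [Nat.card_zpowers, orderOf_coe, hx]
    have hqs := hDs q hq (hd.trans (card_dvd_of_le hY))
    exact key hqs (IsPGroup.of_card (n := 1) (by rw [hxc, pow_one]))
      (ne_bot_of_card (hxc ▸ hq.one_lt)) (hxY.trans hY)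
      (S10.cent_derived_uniq hM hqs ((hxY.trans hY).trans hDM) hxc (h.imp id hxY.trans)).1.1
  have hDd : D ⊓ ⁅σ, σ⁆ = ⊥ := by
    by_contra hne
    obtain ⟨q, hq, hd⟩ := Nat.exists_prime_and_dvd fun h1 : Nat.card ↥(D ⊓ ⁅σ, σ⁆) = 1 =>
      hne (eq_bot_of_card_eq _ h1)
    exact line q hq _ inf_le_left hd (Or.inr inf_le_right)
  refine ⟨isCyclic_of_sylowOf (isMulCommutative_of_commutator_eq_bot ?_) fun q _ hd P hP => ?_,
    fun q hq hd hb => line q hq D le_rfl hd (Or.inl hb), hDd⟩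
  · exact eq_bot_iff.mpr (hDd ▸ le_inf (derived_le D) (commutator_mono inf_le_left inf_le_left))
  · by_contra hnc
    have hqs := hDs q Fact.out hd
    exact key hqs hP.2.1 (sylowOf_ne_bot hP hd) hP.1 ((centralizer_le_normalizer _).trans
      (S10.normalizer_le_of_not_isCyclic hM hqs hP.2.1 (hP.1.trans hDM) hnc))

/-- BG 12.1. -/
theorem compl_derived_structure (hM : IsCoatom M) (hE : Cfsg.IsComplIn E (Cfsg.sigmaCore M) M) :
    Group.IsNilpotent ↥⁅E, E⁆ ∧
      (∀ E₁ : Subgroup G, Cfsg.IsPiHallOf (Cfsg.tau1 M) E₁ E → IsCyclic E₁) ∧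
      ∀ E₃ : Subgroup G, Cfsg.IsPiHallOf (Cfsg.tau3 M) E₃ E →
        IsCyclic E₃ ∧ E₃ ≤ ⁅E, E⁆ ∧ E ≤ normalizer (E₃ : Set G) := by
  have hG := S10.minSimple
  set σ := Cfsg.sigmaCore M with hσ
  have hEM : E ≤ M := hE.1
  have hEn : E ≤ normalizer (σ : Set G) :=
    hEM.trans (OddOrder.le_normalizer_piCoreOf (Cfsg.sigma M) M)
  haveI hab := S10.commute_compl_derived hM hE
  have hsyl : ∀ (q : ℕ) [Fact q.Prime] {X : Subgroup G}, X ≤ M → Cfsg.PRankLE q 1 M → q ∣ Nat.card X →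
      ∀ P : Subgroup G, IsSylowOf q P X → IsCyclic P := fun q _ X hXM hr hd P hP =>
    isCyclic_of_pRankLE_one (ne_two_of_mem_card hG hd) hP.2.1
      (pRankLE_of_le (hP.1.trans hXM) hr)
  refine ⟨inferInstance, fun E₁ hE₁ => ?_, fun E₃ hE₃ => ?_⟩
  · refine isCyclic_of_sylowOf (isMulCommutative_of_commutator_eq_bot ?_)
      fun q _ hd P hP => hsyl q (hE₁.1.trans hEM) (hE₁.2.1 q Fact.out hd).2.2.2.2 hd P hP
    refine eq_bot_iff.mpr ((le_inf (derived_le E₁) (commutator_mono (hE₁.1.trans hEM)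
      (hE₁.1.trans hEM))).trans (Coprime.inf_eq_bot ?_).le)
    exact Nat.coprime_of_dvd fun r hr h1 h2 => (hE₁.2.1 r hr h1).2.2.2.1 h2
  have hle : E₃ ≤ ⁅E, E⁆ := by
    set C := commutator ↥E with hC
    have e : C.map E.subtype = ⁅E, E⁆ := map_subtype_commutator E
    have hkey : ∀ r : ℕ, r.Prime → r ∣ Nat.card E₃ → ¬ r ∣ C.index := by
      intro r hr hd
      haveI := Fact.mk hr
      obtain ⟨-, hrs, hrd, hrk⟩ := hE₃.2.1 r hr hd
      have hrE : r ∣ Nat.card C := by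
        rw [← card_map_of_injective E.subtype_injective, e]
        have hM' : ⁅M, M⁆ ≤ σ ⊔ ⁅E, E⁆ := by
          refine (commutator_mono ?_ ?_).trans (derived_sup_le hEn)
          all_goals
            intro m hm
            obtain ⟨a, ha, b, hb, rfl⟩ := hE.2.2.2 m hm
            exact mul_mem (mem_sup_right ha) (mem_sup_left hb)
        have h1 := hrd.trans (card_dvd_of_le hM')
        rw [Coprime.card_sup ((derived_le E).trans hEn) (eq_bot_iff.mpr
          ((inf_le_inf_left σ (derived_le E)).trans (inf_comm σ E ▸ hE.2.2.1).le))] at h1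
        exact (hr.dvd_mul.mp h1).resolve_left fun h =>
          hrs (OddOrder.piCoreOf_isPiNumber (Cfsg.sigma M) M r hr h)
      obtain ⟨P⟩ : Nonempty (Sylow r E) := inferInstance
      haveI : IsCyclic (P : Subgroup E) := by
        haveI := hsyl r hEM hrk (hd.trans (card_dvd_of_le hE₃.1)) _ (isSylowOf_map P)
        exact isCyclic_of_surjective
          ((P : Subgroup E).equivMapOfInjective _ E.subtype_injective).symm
          ((P : Subgroup E).equivMapOfInjective _ E.subtype_injective).symm.surjective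
      exact P.not_dvd_card_commutator_or_not_dvd_index_commutator.resolve_left fun h => h hrE
    have h1 : C.relIndex (E₃.subgroupOf E) = 1 := by
      refine Nat.eq_one_of_dvd_coprimes ?_ (relIndex_dvd_card C (E₃.subgroupOf E))
        (relIndex_dvd_index_of_normal C (E₃.subgroupOf E))
      rw [Nat.card_congr (subgroupOfEquivOfLe hE₃.1).toEquiv]
      exact Nat.coprime_of_dvd fun r hr h1 h2 => hkey r hr h1 h2
    intro x hx
    rw [← e]
    exact ⟨⟨x, hE₃.1 hx⟩, relIndex_eq_one.mp h1 hx, rfl⟩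
  refine ⟨isCyclic_of_sylowOf (isMulCommutative_of_le hab hle)
    fun q _ hd P hP => hsyl q (hE₃.1.trans hEM) (hE₃.2.1 q Fact.out hd).2.2.2 hd P hP, hle,
    fun x hx => cj_eq_iff.mp ?_⟩
  have hxn : x ∈ normalizer ((⁅E, E⁆ : Subgroup G) : Set G) := le_normalizer_derived E hx
  have h3 : Cfsg.IsPiHallOf (Cfsg.tau3 M) E₃ ⁅E, E⁆ :=
    ⟨hle, hE₃.2.1, fun r hr hrt hd =>
      hE₃.2.2 r hr hrt (hd.trans ⟨_, (relIndex_mul_relIndex E₃ _ E hle (derived_le E)).symm⟩)⟩
  obtain ⟨k, hk, hkx⟩ := Coprime.exists_conj_hallOf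
    inferInstance
    (Coprime.isPiHallOf_map_conj hxn h3) h3
  have h4 : cj k (cj x E₃) = cj x E₃ := cj_eq_iff.mpr (centralizer_le_normalizer _
    (mem_centralizer_iff.mpr fun y hy => congrArg Subtype.val (hab.is_comm.comm
      (⟨y, ((cj_mono x hle).trans (cj_eq_iff.mpr hxn).le) hy⟩ : ↥⁅E, E⁆) ⟨k, hk⟩)))
  exact h4.symm.trans hkx

end Section10

end Cfsg.Agent.OddOrder.BG11
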