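import Cfsg.Agent.OddOrder.BG12.NonabelianUniq
import Cfsg.Agent.OddOrder.BG11.AbelianSylow
import Cfsg.Agent.OddOrder.BG5.Narrow

/-!
BG 12.14: centralisers of elements of `M_σ'`, or of ideal primes, lie only in `M`.
-/

set_option autoImplicit false

universe u

namespace Cfsg.Agent.OddOrder.BG11

open Subgroup H40
open scoped commutatorElement

variable {G : Type u} [Group G] [Finite G] {p : ℕ} [hp : Fact p.Prime]

/-- A line of `M'` in a Sylow subgroup of a group with a normal `p`-complement lies in the derived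
group of that Sylow subgroup. -/
theorem le_derived_sylow {L P X : Subgroup G} (hL : Cfsg.HasNormalPComplement p L)
    (hP : IsSylowOf p P L) (hXP : X ≤ P) (hX : X ≤ ⁅L, L⁆) : X ≤ ⁅P, P⁆ := by
  obtain ⟨P₀, hP₀⟩ := exists_sylow_eq hP
  have hc := Fusion.isComplement'_pResidual hL P₀
  have hn : ¬ p ∣ Nat.card (Cfsg.pResidual p ↥L) := Fusion.hasNormalPComplement_iff_pResidual.mp hL
  set K := (Cfsg.pResidual p ↥L).map L.subtype with hK
  have hKn : L ≤ normalizer (K : Set G) := by
    rw [← normal_subgroupOf_iff_le_normalizer (map_subtype_le _), subgroupOf,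
      comap_map_eq_self_of_injective L.subtype_injective]
    infer_instance
  have hsup : K ⊔ P = L := by
    rw [← hP₀, hK, ← Subgroup.map_sup, hc.sup_eq_top, ← MonoidHom.range_eq_map, range_subtype]
  have hPn : P ≤ normalizer (K : Set G) := hP.1.trans hKn
  intro x hx
  have h1 : x ∈ ⁅K ⊔ P, K ⊔ P⁆ := by rw [hsup]; exact hX hx
  have hder : ⁅P, P⁆ ≤ P := derived_le P
  obtain ⟨k, hk, y, hy, hky⟩ := (Coprime.mem_sup_iff (hder.trans hPn)).mp (derived_sup_le hPn h1)
  have hkP : k ∈ P := (P.mul_mem_cancel_right (hder hy)).mp (hky ▸ hXP hx)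
  have hd : K ⊓ P = ⊥ := Coprime.inf_eq_bot (by
    obtain ⟨e, he⟩ := IsPGroup.iff_card.mp hP.2.1
    rw [hK, card_map_of_injective L.subtype_injective, he]
    exact ((hp.out.coprime_iff_not_dvd.mpr hn).symm).pow_right e)
  rw [← hky, mem_bot.mp (hd.le ⟨hk, hkP⟩), one_mul]
  exact hy

/-- The derived group of a product of two commuting factors, one abelian, the other with
central commutators. -/
theorem derived_sup_le_centralizer {A B : Subgroup G} (hAB : ∀ a ∈ A, ∀ b ∈ B, a * b = b * a)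
    (hA : ⁅A, A⁆ ≤ centralizer (A : Set G)) (hB : IsMulCommutative B) :
    ⁅A ⊔ B, A ⊔ B⁆ ≤ centralizer ((A ⊔ B : Subgroup G) : Set G) := by
  have hBA : B ≤ centralizer (A : Set G) := fun b hb => mem_centralizer_iff.mpr fun a ha => hAB a ha b hb
  have hn : B ≤ normalizer (A : Set G) := hBA.trans (centralizer_le_normalizer _)
  have h1 : ⁅A ⊔ B, A ⊔ B⁆ ≤ ⁅A, A⁆ := by
    refine commutator_le.mpr fun x hx y hy => ?_
    obtain ⟨a, ha, b, hb, rfl⟩ := (Coprime.mem_sup_iff hn).mp hx
    obtain ⟨a', ha', b', hb', rfl⟩ := (Coprime.mem_sup_iff hn).mp hy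
    have e1 : ⁅b, a'⁆ = 1 := commutatorElement_eq_one_iff_mul_comm.mpr (hAB a' ha' b hb).symm
    have e2 : ⁅b, b'⁆ = 1 := commutatorElement_eq_one_iff_mul_comm.mpr
      (congrArg Subtype.val (hB.is_comm.comm (⟨b, hb⟩ : B) ⟨b', hb'⟩))
    have e3 : ⁅a, b'⁆ = 1 := commutatorElement_eq_one_iff_mul_comm.mpr (hAB a ha b' hb')
    have e : ⁅a * b, a' * b'⁆ = a * (⁅b, a'⁆ * (a' * ⁅b, b'⁆ * a'⁻¹)) * a⁻¹ *
        (⁅a, a'⁆ * (a' * ⁅a, b'⁆ * a'⁻¹)) := by
      simp only [commutatorElement_def]; group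
    rw [e, e1, e2, e3]
    simpa using commutator_mem_commutator ha ha'
  refine h1.trans (le_centralizer_iff.mpr (sup_le (le_centralizer_iff.mp hA) ?_))
  exact hBA.trans (Subgroup.centralizer_le (derived_le A))

namespace Section10

variable (S10 : Section10 G)
include S10

/-- BG 12.14. -/
theorem cent_derived_uniq {M : Subgroup G} (hM : IsCoatom M) (hs : p ∈ Cfsg.sigma M) {X : Subgroup G}
    (hXM : X ≤ M) (hX : Nat.card X = p)
    (h : p ∈ Cfsg.beta M ∨ X ≤ ⁅Cfsg.sigmaCore M, Cfsg.sigmaCore M⁆) :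
    (centralizer (X : Set G) ≤ M ∧
        ∀ L : Subgroup G, IsCoatom L → centralizer (X : Set G) ≤ L → L = M) ∧
      ∀ P : Subgroup G, IsSylowOf p P M → Cfsg.InUniqueMaximal P := by
  have hG := S10.minSimple
  have hp' : p.Prime := hp.out
  have hXp : IsPGroup p X := IsPGroup.of_card (n := 1) (by rw [hX, pow_one])
  obtain ⟨P, hP, hXP⟩ := exists_sylowOf_ge' hXp hXM
  have hp2 : p ≠ 2 := ne_two_of_mem_card hG hs.2.1
  obtain ⟨T, hT⟩ := sylow_top hs hP
  have hPσ := S10.sylow_le_sigmaCore hM hs hP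
  -- outside `β(M)` the Sylow subgroup is nonabelian
  have hder : p ∉ Cfsg.beta M → X ≤ ⁅P, P⁆ := fun hb =>
    le_derived_sylow ((S10.betaCore_spec M hM).2.2.2.2 p hp' hs.2.1 hb).2.1 hPσ hXP (h.resolve_left hb)
  have hX0 : X ≠ ⊥ := ne_bot_of_card (hX ▸ hp'.one_lt)
  have hna : p ∉ Cfsg.beta M → ¬ IsMulCommutative P := fun hb hc => by
    refine hX0 (eq_bot_iff.mpr ((hder hb).trans ?_))
    rw [commutator_le]
    exact fun a ha b hb => mem_bot.mpr (commutatorElement_eq_one_iff_mul_comm.mpr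
      (congrArg Subtype.val (hc.is_comm.comm (⟨a, ha⟩ : P) ⟨b, hb⟩)))
  refine ⟨?_, fun Q hQ => ?_⟩
  swap
  · by_cases hb : p ∈ Cfsg.beta M
    · exact S10.inUniqueMaximal_sylow_alpha hM hb.1 hQ
    · refine S10.inUniqueMaximal_of_nonabelian hQ.2.1 fun hc => hna hb ?_
      obtain ⟨m, -, hm⟩ := exists_conj_eq hQ hP
      refine ⟨⟨fun a b => Subtype.ext ?_⟩⟩
      have h1 := congrArg Subtype.val (hc.is_comm.comm
        (⟨m * a * m⁻¹, hm.le (conj_mem_cj m a.2)⟩ : Q) ⟨m * b * m⁻¹, hm.le (conj_mem_cj m b.2)⟩)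
      have h2 := congrArg (fun t => m⁻¹ * t * m) h1
      simpa [mul_assoc] using h2
  -- the centraliser inside `P`
  set C := P ⊓ centralizer (X : Set G) with hC
  have hCp : IsPGroup p C := hP.2.1.to_le inf_le_left
  have hCM : C ≤ M := inf_le_left.trans hP.1
  have hXc : X ≤ centralizer (X : Set G) := by
    haveI : IsCyclic X := isCyclic_of_prime_card hX
    exact fun x hx => mem_centralizer_iff.mpr fun y hy =>
      congrArg Subtype.val ((inferInstance : IsMulCommutative X).is_comm.comm (⟨y, hy⟩ : X) ⟨x, hx⟩)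
  have hU : Cfsg.InUniqueMaximal C := by
    by_cases hr : Cfsg.PRankLE p 2 C
    swap
    · refine S10.uniqueness C (ne_top_of_le_coatom hM hCM) (fun h1 => hr ?_) (Or.inl fun h2 => hr (h2 p hp'))
      exact fun A hA he => (h1 p hp' A hA he).trans (Nat.pow_le_pow_right hp'.pos one_le_two)
    refine S10.inUniqueMaximal_of_nonabelian hCp fun hCc => ?_
    -- `X` is not central in `P`
    have hXnc : ¬ P ≤ centralizer (X : Set G) := by
      intro hle
      have e : C = P := inf_eq_left.mpr hle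
      by_cases hb : p ∈ Cfsg.beta M
      · obtain ⟨P₀, hP₀⟩ := exists_sylow_eq hP
        refine hb.1.2 (pRankLE_of_sylow P₀ (pRankLE_congr ?_ hr))
        exact (MulEquiv.subgroupCongr (e.trans hP₀.symm)).trans
          ((P₀ : Subgroup M).equivMapOfInjective M.subtype M.subtype_injective).symm
      · exact hna hb (e ▸ hCc)
    -- a central line
    have hPne : P ≠ ⊥ := fun e => hX0 (eq_bot_iff.mpr (hXP.trans e.le))
    haveI : Nontrivial P := P.nontrivial_iff_ne_bot.mpr hPne
    obtain ⟨z, -, hzc, hzo⟩ := PGroups.exists_mem_center_orderOf_eq hP.2.1 (⊤ : Subgroup P) top_ne_bot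
    have hzX : (z : G) ∉ X := by
      intro hzX
      refine hXnc fun y hy => mem_centralizer_iff.mpr fun x hx => ?_
      have hgen : zpowers (z : G) = X := by
        refine eq_of_le_of_card_ge (zpowers_le.mpr hzX) ?_
        rw [hX, Nat.card_zpowers, orderOf_coe, hzo]
      obtain ⟨i, rfl⟩ := mem_zpowers_iff.mp (hgen.ge hx)
      exact (Commute.zpow_left
        (congrArg Subtype.val (mem_center_iff.mp hzc ⟨y, hy⟩)).symm i).eq
    set E := X ⊔ zpowers (z : G) with hE
    have hzn : zpowers (z : G) ≤ centralizer (X : Set G) := zpowers_le.mpr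
      (mem_centralizer_iff.mpr fun x hx => congrArg Subtype.val (mem_center_iff.mp hzc ⟨x, hXP hx⟩))
    have hd : X ⊓ zpowers (z : G) = ⊥ := by
      refine eq_bot_iff.mpr fun y hy => ?_
      obtain ⟨i, rfl⟩ := mem_zpowers_iff.mp hy.2
      rw [mem_bot]
      by_contra hy1
      have hzp : (z : G) ^ p = 1 := by
        rw [← hzo, ← orderOf_coe, pow_orderOf_eq_one]
      have h1 : zpowers ((z : G) ^ i) = zpowers (z : G) := by
        refine eq_of_le_of_card_ge (zpowers_le.mpr (zpow_mem (mem_zpowers _) i)) ?_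
        rw [Nat.card_zpowers, Nat.card_zpowers, orderOf_coe, hzo,
          orderOf_eq_prime (by rw [← zpow_natCast, ← zpow_mul, mul_comm, zpow_mul, zpow_natCast, hzp,
            one_zpow]) hy1]
      exact hzX ((zpowers_le.mpr hy.1) (h1.ge (mem_zpowers _)))
    have hEe : Cfsg.IsElementaryAbelian p E := by
      refine BG5.elementary_sup ⟨?_, fun x hx => ?_⟩ (BG5.elementary_zpowers ?_) hzn
      · haveI : IsCyclic X := isCyclic_of_prime_card hX
        infer_instance
      · exact orderOf_dvd_iff_pow_eq_one.mp (hX ▸ X.orderOf_dvd_natCard hx)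
      · rw [← hzo, ← orderOf_coe, pow_orderOf_eq_one]
    have hE2 : Nat.card E = p ^ 2 := by
      rw [Coprime.card_sup (hzn.trans (centralizer_le_normalizer _)) hd, hX, Nat.card_zpowers,
        orderOf_coe, hzo, sq]
    have hEP : E ≤ P := sup_le hXP (zpowers_le.mpr z.2)
    have hEmax : ∀ B : Subgroup G, B ≤ P → Cfsg.IsElementaryAbelian p B → E ≤ B → B = E := by
      intro B hB hBe hEB
      refine (eq_of_le_of_card_ge hEB ?_).symm
      rw [hE2]
      refine card_le_of_pRankLE hr (le_inf hB fun b hb => mem_centralizer_iff.mpr fun x hx => ?_) hBe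
      exact elemAb_commute hBe (hEB (mem_sup_left hx)) hb
    by_cases hb : p ∈ Cfsg.beta M
    · obtain ⟨B, hB, hBe, hlt⟩ := hb.2.2.2 T E (hT ▸ hEP) hEe hE2
      exact hlt.ne (hEmax B (hT ▸ hB) hBe hlt.le).symm
    have hXd := hder hb
    by_cases hr2 : Cfsg.PRankLE p 2 P
    · obtain ⟨P₁, P₂, hsup, hcomm, hna₁, hc₁, -, hcyc, -⟩ :=
        (S10.sylow_rank_two p T (hT ▸ hr2)).resolve_left (hT ▸ hna hb)
      refine hXnc (le_centralizer_iff.mp (hXd.trans ?_))
      rw [← hT, ← hsup]
      refine derived_sup_le_centralizer hcomm ?_ (haveI := hcyc; inferInstance)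
      refine le_trans ?_ (inf_le_right : P₁ ⊓ centralizer (P₁ : Set G) ≤ _)
      refine le_inf (derived_le P₁) (commutator_le.mpr fun x hx y hy => ?_)
      have hidx : (center ↥P₁).index ∣ p ^ 2 := by
        have h1 : Nat.card (center ↥P₁) * (center ↥P₁).index = p ^ 3 := by rw [card_mul_index, hc₁]
        obtain ⟨k, -, hk⟩ := (Nat.dvd_prime_pow hp').mp (hc₁ ▸ (center ↥P₁).index_dvd_card)
        refine hk ▸ pow_dvd_pow p ?_
        by_contra hlt
        have hk3 : k = 3 := by
          have := hc₁ ▸ (center ↥P₁).index_dvd_card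
          rw [hk] at this
          have := (Nat.pow_dvd_pow_iff_le_right hp'.one_lt).mp this
          omega
        rw [hk, hk3] at h1
        haveI : Nontrivial P₁ := Finite.one_lt_card_iff_nontrivial.mp
          (by rw [hc₁]; exact Nat.one_lt_pow (by norm_num) hp'.one_lt)
        haveI := (IsPGroup.of_card hc₁ : IsPGroup p P₁).center_nontrivial
        have h2 := Finite.one_lt_card (α := center ↥P₁)
        nlinarith [pow_pos hp'.pos 3]
      have h3 := PGroups.commutator_le_of_index_dvd_sq (center ↥P₁) hidx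
        (commutator_mem_commutator (mem_top (⟨x, hx⟩ : P₁)) (mem_top ⟨y, hy⟩))
      exact mem_centralizer_iff.mpr fun w hw => congrArg Subtype.val (mem_center_iff.mp h3 ⟨w, hw⟩)
    -- the narrow case
    have hmapE : (E.subgroupOf P).map P.subtype = E := map_subgroupOf_eq_of_le hEP
    have hnd : BG5.NarrowData p ↥P (E.subgroupOf P) := by
      refine ⟨hr2, ⟨⟨⟨fun a b => Subtype.ext (Subtype.ext (elemAb_commute hEe a.2 b.2))⟩⟩,
        fun a ha => Subtype.ext (hEe.2 _ ha)⟩, ?_, fun B hB hEB => ?_⟩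
      · rw [Nat.card_congr (subgroupOfEquivOfLe hEP).toEquiv, hE2]
      · have hBG : Cfsg.IsElementaryAbelian p (B.map P.subtype) :=
          ⟨haveI := hB.1; map_isMulCommutative B P.subtype, by
            rintro _ ⟨x, hx, rfl⟩
            rw [← map_pow, hB.2 x hx, map_one]⟩
        have h1 := hEmax _ (map_subtype_le B) hBG (hmapE ▸ map_mono hEB)
        exact map_injective P.subtype_injective (h1.trans hmapE.symm)
    obtain ⟨-, -, hnot, hidx⟩ := hnd.main hp2 hP.2.1
    set W := centralizer (BG5.omegaSecond p ↥P : Set ↥P) with hW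
    haveI : W.Normal := PGroups.normal_of_index_eq hP.2.1 hidx
    have hcomW : commutator ↥P ≤ W :=
      PGroups.commutator_le_of_index_dvd_sq (p := p) W (by rw [hidx]; exact dvd_pow_self p two_ne_zero)
    have hzW : z ∈ W := center_le_centralizer _ hzc
    refine hnot ?_
    rw [hE, subgroupOf_sup hXP (zpowers_le.mpr z.2)]
    refine sup_le (fun x hx => ?_) fun x hx => ?_
    · obtain ⟨y, hy, hyx⟩ := (map_subtype_commutator P).ge (hXd hx)
      rw [← Subtype.ext hyx]
      exact hcomW hy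
    · obtain ⟨i, hi⟩ := mem_zpowers_iff.mp hx
      have : x = z ^ i := Subtype.ext (by simpa using hi.symm)
      rw [this]
      exact zpow_mem hzW i
  have htop : centralizer (X : Set G) ≠ ⊤ :=
    centralizer_ne_top hG hX0 (ne_top_of_le_coatom hM hXM)
  exact ⟨le_of_inUniqueMaximal hU hM hCM htop inf_le_right,
    fun L hL hle => eq_of_inUniqueMaximal hU hM hCM hL (inf_le_right.trans hle)⟩

end Section10

end Cfsg.Agent.OddOrder.BG11
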