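import Cfsg.Agent.OddOrder.BG12.NonabelianUniq
import Cfsg.Agent.Coprime.Hall
import Cfsg.Agent.H91.Replace
import Cfsg.Agent.H41.RankTwo

/-!
BG 12.15 and 12.16: a second maximal subgroup over the normalizer of a `σ(M)`-subgroup, and
conjugation of the `σ(M)`-subgroups into `M_σ`.
-/

set_option autoImplicit false

universe u

namespace Cfsg.Agent.OddOrder.BG11

open Subgroup H40

variable {G : Type u} [Group G] [Finite G]

/-- A `p`-subgroup strictly inside another is strictly inside its normalizer there. -/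
theorem exists_normalizing_of_ne {p : ℕ} [Fact p.Prime] {S T : Subgroup G} (hT : IsPGroup p T)
    (hST : S ≤ T) (hne : S ≠ T) : ∃ g ∈ T, g ∉ S ∧ g ∈ normalizer (S : Set G) := by
  have hlt : S.subgroupOf T ≠ ⊤ := fun e => hne (le_antisymm hST (subgroupOf_eq_top.mp e))
  obtain ⟨g, hg, hgS⟩ := SetLike.exists_of_lt (PGroups.lt_normalizer hT hlt)
  exact ⟨g, g.2, hgS, by rw [← subgroupOf_normalizer_eq hST] at hg; exact hg⟩

/-- A subgroup of a cyclic group is normalized by the normalizer of that group. -/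
theorem normalizer_le_of_le_cyclic {S X : Subgroup G} (hS : IsCyclic S) (hXS : X ≤ S) :
    normalizer (S : Set G) ≤ normalizer (X : Set G) := fun g hg => cj_eq_iff.mp
  (H41.eq_of_card_eq_of_le_cyclic hS ((cj_mono g hXS).trans (cj_eq_iff.mpr hg).le) hXS (card_cj g X))

theorem not_dvd_relIndex {p : ℕ} [hp : Fact p.Prime] {S H : Subgroup G} (hS : IsSylowOf p S H) :
    ¬ p ∣ S.relIndex H := by
  intro hd
  have h1 : Nat.card S * S.relIndex H = Nat.card H := by
    rw [← relIndex_bot_left, ← relIndex_bot_left (H := H), relIndex_mul_relIndex _ _ _ bot_le hS.1]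
  refine Nat.pow_succ_factorization_not_dvd (n := Nat.card H) Nat.card_pos.ne' hp.out ?_
  rw [pow_succ, ← hS.2.2]
  exact h1 ▸ Nat.mul_dvd_mul_left _ hd

namespace Section10

variable (S10 : Section10 G)
include S10

/-- Some prime divisor of `|M|` is outside `σ(M)`. -/
theorem exists_prime_not_sigma {M : Subgroup G} (hM : IsCoatom M) :
    ∃ q : ℕ, q.Prime ∧ q ∣ Nat.card M ∧ q ∉ Cfsg.sigma M := by
  by_contra hne
  push Not at hne
  have hle : M ≤ ⁅M, M⁆ := (S10.le_sigmaCore hM le_rfl hne).trans (S10.sigmaCore_le_derived M hM)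
  haveI : Group.IsSolvable M := S10.isSolvable_max hM
  haveI : Nontrivial M := (nontrivial_iff_ne_bot M).mpr (coatom_ne_bot S10.minSimple hM)
  refine (Group.IsSolvable.commutator_lt_top_of_nontrivial (G := M)).not_ge fun x _ => ?_
  obtain ⟨y, hy, hyx⟩ := (map_subtype_commutator M).ge (hle x.2)
  rwa [← Subtype.ext hyx]

section Embedding

variable {q : ℕ} [hq : Fact q.Prime] {M L X S : Subgroup G}

/-- BG 12.15: `S` is a Sylow subgroup of `L`, and either of `G` or noncyclic. -/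
theorem sylow_meet (hM : IsCoatom M) (hs : q ∈ Cfsg.sigma M)
    (hNX : normalizer (X : Set G) ≤ L) (hS : IsSylowOf q S (M ⊓ L)) (hXS : X ≤ S) :
    normalizer (S : Set G) ≤ M ∧ IsSylowOf q S L ∧
      ((∃ T : Sylow q G, (T : Subgroup G) = S) ∨ ¬ IsCyclic S) := by
  obtain ⟨T, hT, hST⟩ := exists_sylowOf_ge' hS.2.1 (hS.1.trans inf_le_left)
  obtain ⟨T₀, hT₀⟩ := sylow_top hs hT
  by_cases e : S = T
  · subst e
    exact ⟨normalizer_le_of_mem_sigma hs hT,
      isSylowOf_mono (hT₀ ▸ isSylowOf_top T₀) (hS.1.trans inf_le_right) le_top, Or.inl ⟨T₀, hT₀⟩⟩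
  obtain ⟨g, hgT, hgS, hgn⟩ := exists_normalizing_of_ne hT.2.1 hST e
  have hgL : g ∉ L := fun hgL => hgS ((hS.eq_of_le (R := S ⊔ zpowers g)
    (hT.2.1.to_le (sup_le hST (zpowers_le.mpr hgT))) le_sup_left
    (sup_le hS.1 (zpowers_le.mpr ⟨hT.1 hgT, hgL⟩))).ge (mem_sup_right (mem_zpowers g)))
  have hnc : ¬ IsCyclic S := fun hc => hgL (hNX (normalizer_le_of_le_cyclic hc hXS hgn))
  have hNM := S10.normalizer_le_of_not_isCyclic hM hs hS.2.1 (hS.1.trans inf_le_left) hnc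
  refine ⟨hNM, ?_, Or.inr hnc⟩
  obtain ⟨R, hR, hSR⟩ := exists_sylowOf_ge' hS.2.1 (hS.1.trans inf_le_right)
  rcases eq_or_ne S R with rfl | hne
  · exact hR
  obtain ⟨h, hhR, hhS, hhn⟩ := exists_normalizing_of_ne hR.2.1 hSR hne
  exact absurd ((hS.eq_of_le (R := S ⊔ zpowers h)
    (hR.2.1.to_le (sup_le hSR (zpowers_le.mpr hhR))) le_sup_left
    (sup_le hS.1 (zpowers_le.mpr ⟨hNM hhn, hR.1 hhR⟩))).ge (mem_sup_right (mem_zpowers h))) hhS

/-- BG 12.15: `L` is not a conjugate of `M`. -/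
theorem ne_cj_of_meet (hM : IsCoatom M) (hs : q ∈ Cfsg.sigma M) (hne : L ≠ M)
    (hNX : normalizer (X : Set G) ≤ L) (hS : IsSylowOf q S (M ⊓ L)) (hXS : X ≤ S) :
    ∀ g : G, L ≠ cj g M := by
  rintro g rfl
  obtain ⟨hNS, hSL, -⟩ := S10.sylow_meet hM hs hNX hS hXS
  obtain ⟨T₀, hT₀⟩ := sylow_top (mem_sigma_cj g hs) hSL
  have hSM : IsSylowOf q S M :=
    isSylowOf_mono (hT₀ ▸ isSylowOf_top T₀) (hS.1.trans inf_le_left) le_top
  have h2 := isSylowOf_cj hSL g⁻¹
  rw [cj_inv_cj] at h2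
  obtain ⟨m, hm, h⟩ := exists_conj_eq hSM h2
  rw [← cj_mul] at h
  have h3 : m * g⁻¹ ∈ M := hNS (cj_eq_iff.mp h)
  exact hne (cj_eq_of_mem (inv_mem_iff.mp ((M.mul_mem_cancel_left hm).mp h3)))

/-- A supplement of a normal subgroup without primes in `σ(M)` contains conjugates of the
`σ(M)`-subgroups. -/
theorem exists_cj_le_of_supplement (hM : IsCoatom M) {K Y : Subgroup G}
    (hL : Group.IsSolvable L) (hKn : L ≤ normalizer (K : Set G))
    (hK : ∀ r : ℕ, r.Prime → r ∣ Nat.card K → r ∉ Cfsg.sigma M) (hLK : L ≤ K ⊔ (M ⊓ L))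
    (hKL : K ≤ L) (hYL : Y ≤ L)
    (hY : ∀ r : ℕ, r.Prime → r ∣ Nat.card Y → r ∈ Cfsg.sigma M) :
    ∃ g : G, cj g Y ≤ Cfsg.sigmaCore M := by
  set D := M ⊓ L with hD
  have hDsol : Group.IsSolvable D := by
    haveI := hL
    exact Group.isSolvable_of_isSolvable_injective (f := inclusion (inf_le_right : D ≤ L))
      (inclusion_injective _)
  obtain ⟨H, hH, -, -⟩ := Coprime.exists_invariant_hall_ge (A := (⊥ : Subgroup G)) (K := D)
    bot_le (by rw [card_bot]; exact Nat.coprime_one_left _) hDsol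
    (U := ⊥) bot_le bot_le (π := Cfsg.sigma M) (fun r hr hd => by
      rw [card_bot] at hd; exact absurd (Nat.dvd_one.mp hd) hr.ne_one)
  have hidx : D.relIndex L ∣ Nat.card K := by
    have h1 := H91.card_sup_mul_card_inf' (inf_le_right.trans hKn : D ≤ normalizer (K : Set G))
    rw [show K ⊔ D = L from le_antisymm (sup_le hKL inf_le_right) hLK] at h1
    have h2 : Nat.card D * D.relIndex L = Nat.card L := by
      rw [← relIndex_bot_left, ← relIndex_bot_left (H := L),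
        relIndex_mul_relIndex _ _ _ bot_le inf_le_right]
    rw [← h2, mul_assoc, mul_comm (Nat.card K)] at h1
    exact ⟨_, (Nat.eq_of_mul_eq_mul_left Nat.card_pos h1).symm⟩
  have hHL : Cfsg.IsPiHallOf (Cfsg.sigma M) H L := by
    refine ⟨hH.1.trans inf_le_right, hH.2.1, fun r hr hrs hd => ?_⟩
    rw [← relIndex_mul_relIndex H D L hH.1 inf_le_right] at hd
    rcases hr.dvd_mul.mp hd with h | h
    · exact hH.2.2 r hr hrs h
    · exact hK r hr (h.trans hidx) hrs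
  obtain ⟨H₂, hH₂, -, hYH₂⟩ := Coprime.exists_invariant_hall_ge (A := (⊥ : Subgroup G)) (K := L)
    bot_le (by rw [card_bot]; exact Nat.coprime_one_left _) hL
    (U := Y) hYL bot_le (π := Cfsg.sigma M) hY
  obtain ⟨k, -, he⟩ := Coprime.exists_conj_hallOf hL hH₂ hHL
  refine ⟨k, S10.le_sigmaCore hM ((cj_mono k hYH₂).trans ?_) fun r hr hd => hY r hr (card_cj k Y ▸ hd)⟩
  exact (he.le.trans hH.1).trans inf_le_left

/-- BG 12.16 for a subgroup normalizing a `q`-subgroup of `M`. -/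
theorem exists_cj_le_sigmaCore_of_normal (hM : IsCoatom M) (hs : q ∈ Cfsg.sigma M)
    (hX : IsPGroup q X) (hX1 : X ≠ ⊥) (hXM : X ≤ M) {Y : Subgroup G}
    (hYX : Y ≤ normalizer (X : Set G))
    (hY : ∀ r : ℕ, r.Prime → r ∣ Nat.card Y → r ∈ Cfsg.sigma M) :
    ∃ g : G, cj g Y ≤ Cfsg.sigmaCore M := by
  have hG := S10.minSimple
  obtain ⟨L, hL, hNX⟩ := exists_coatom_ge (normalizer_ne_top' hG hX1 (ne_top_of_le_coatom hM hXM))
  by_cases hconj : ∃ g : G, L = cj g M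
  · obtain ⟨g, rfl⟩ := hconj
    exact ⟨g⁻¹, S10.le_sigmaCore hM ((cj_mono g⁻¹ (hYX.trans hNX)).trans (cj_inv_cj g M).le)
      fun r hr hd => hY r hr (card_cj g⁻¹ Y ▸ hd)⟩
  push Not at hconj
  obtain ⟨S, hS, hXS⟩ := exists_sylowOf_ge' hX (le_inf hXM (le_normalizer.trans hNX) : X ≤ M ⊓ L)
  obtain ⟨hNS, hSL, hor⟩ := S10.sylow_meet hM hs hNX hS hXS
  haveI : Group.IsSolvable L := S10.isSolvable_max hL
  have hnot : ∀ r : ℕ, r.Prime → r ∈ Cfsg.sigma L →
      r ∈ Cfsg.alpha L ∨ Group.IsNilpotent (Cfsg.sigmaCore L) → r ∉ Cfsg.sigma M := by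
    intro r hr hrL h hrM
    haveI := Fact.mk hr
    obtain ⟨g, hg⟩ := S10.exists_cj_eq hL hM hrL hrM h
    exact hconj g hg.symm
  by_cases hqL : q ∈ Cfsg.sigma L
  · refine S10.exists_cj_le_of_supplement (L := L) (K := Cfsg.alphaCore L) hM inferInstance
      (OddOrder.le_normalizer_piCoreOf (Cfsg.alpha L) L) (fun r hr hd => ?_) (fun l hl => ?_)
      (map_subtype_le _) (hYX.trans hNX) hY
    · have h := OddOrder.piCoreOf_isPiNumber (Cfsg.alpha L) L r hr hd
      exact hnot r hr (S10.alpha_subset_sigma hL h) (Or.inl h)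
    · obtain ⟨k, hk, n, hn, hnS, rfl⟩ := S10.exists_alpha_mul_normalizer hL hqL hSL l hl
      exact mul_mem (mem_sup_left hk) (mem_sup_right ⟨hNS hnS, hn⟩)
  have hqd : q ∣ Nat.card X := by
    obtain ⟨k, hk⟩ := IsPGroup.iff_card.mp hX
    rw [hk]
    refine dvd_pow_self q fun h0 => hX1 ?_
    rw [h0, pow_zero] at hk
    exact eq_bot_of_card_eq X hk
  have hqS : q ∣ Nat.card S := hqd.trans (card_dvd_of_le hXS)
  have hnc : ¬ IsCyclic S := by
    rcases hor with ⟨T, hT⟩ | h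
    · intro hc
      exact hqL (mem_sigma_of_normalizer_le (hqS.trans (card_dvd_of_le hSL.1)) hSL
        ((normalizer_le_of_le_cyclic hc hXS).trans hNX))
    · exact h
  obtain ⟨A, hAS, hA, hA2⟩ := exists_elemAb_sq (M := S) fun hr =>
    hnc (isCyclic_of_pRankLE_one (ne_two_of_mem_card hG hqS) hSL.2.1 hr)
  have hAL : A ≤ L := hAS.trans hSL.1
  have hτ : q ∈ Cfsg.tau2 L :=
    ⟨hq.out, hqL, S10.pRankLE_two hL hqL, not_pRankLE_one hA hA2 hAL⟩
  have hnil := (S10.tauTwo_structure hL hτ ⟨hAL, hA, hA2⟩).1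
  have hAp : ∀ r : ℕ, r.Prime → r ∣ Nat.card A → r ∉ Cfsg.sigma L := by
    intro r hr hd
    rw [hA2] at hd
    rwa [(Nat.prime_dvd_prime_iff_eq hr hq.out).mp (hr.dvd_of_dvd_pow hd)]
  obtain ⟨E, hE, hAE⟩ := S10.exists_compl_ge hL hAL hAp
  have hEM : E ≤ M := (S10.compl_le_normalizer hL hE hqL hAE hA hA2).1.trans
    (S10.normalizer_le_of_not_isCyclic hM hs (IsPGroup.of_card hA2)
      (hAS.trans (hS.1.trans inf_le_left)) (H41.not_isCyclic_of_card_sq hA2 hA.2))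
  refine S10.exists_cj_le_of_supplement (L := L) (K := Cfsg.sigmaCore L) hM inferInstance
    (OddOrder.le_normalizer_piCoreOf (Cfsg.sigma L) L) (fun r hr hd => ?_) (fun l hl => ?_)
    (map_subtype_le _) (hYX.trans hNX) hY
  · exact hnot r hr (OddOrder.piCoreOf_isPiNumber (Cfsg.sigma L) L r hr hd) (Or.inr hnil)
  · obtain ⟨a, ha, b, hb, rfl⟩ := hE.2.2.2 l hl
    exact mul_mem (mem_sup_right ⟨hEM ha, compl_le hE ha⟩) (mem_sup_left hb)

end Embedding

/-- BG 12.16. -/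
theorem exists_cj_le_sigmaCore {M Y : Subgroup G} (hM : IsCoatom M) (hY1 : Y ≠ ⊥)
    (hY : ∀ r : ℕ, r.Prime → r ∣ Nat.card Y → r ∈ Cfsg.sigma M) :
    ∃ g : G, cj g Y ≤ Cfsg.sigmaCore M := by
  have hG := S10.minSimple
  have hYtop : Y ≠ ⊤ := by
    rintro rfl
    obtain ⟨r, hr, hd, hn⟩ := S10.exists_prime_not_sigma hM
    exact hn (hY r hr (hd.trans (card_dvd_of_le le_top)))
  obtain ⟨q, N, hq, hN1, hNY, hYN, -, hNq⟩ := Coprime.exists_invariant_normal_pgroup
    (A := (⊥ : Subgroup G)) bot_le (hG.2.2.2 Y hYtop) hY1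
  haveI := Fact.mk hq
  have hqs : q ∈ Cfsg.sigma M := by
    obtain ⟨k, hk⟩ := IsPGroup.iff_card.mp hNq
    refine hY q hq ((show q ∣ Nat.card N from ?_).trans (card_dvd_of_le hNY))
    rw [hk]
    refine dvd_pow_self q fun h0 => hN1 ?_
    rw [h0, pow_zero] at hk
    exact eq_bot_of_card_eq N hk
  obtain ⟨T, hT⟩ := exists_sylowOf q M
  obtain ⟨T₀, hT₀⟩ := sylow_top hqs hT
  obtain ⟨g, -, hg⟩ := exists_conj_le (hT₀ ▸ isSylowOf_top T₀) hNq le_top
  obtain ⟨k, hk⟩ := S10.exists_cj_le_sigmaCore_of_normal (Y := cj g Y) hM hqs (hNq.map _)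
    (fun e => hN1 ((map_eq_bot_iff_of_injective N (MulAut.conj g).injective).mp e))
    (hg.trans hT.1) ((cj_mono g hYN).trans (cj_normalizer g N).le)
    fun r hr hd => hY r hr (card_cj g Y ▸ hd)
  exact ⟨k * g, by rw [cj_mul]; exact hk⟩

end Section10

end Cfsg.Agent.OddOrder.BG11
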