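import Cfsg.Agent.OddOrder.BG11.Nonabelian
import Cfsg.Agent.OddOrder.BG11.AbelianSylow
import Cfsg.Agent.OddOrder.BG11.Instance
import Cfsg.Agent.OddOrder.BG12.Embedding
import Cfsg.Agent.Coprime.Action
import Cfsg.Agent.Frobenius.Nilpotent

/-!
BG 13.3 (a) and 14.1: fixed points in `M_σ` of cyclic Sylow subgroups of a complement, and the
small Sylow subgroups outside `σ(M) ∪ κ(M)`.
-/

set_option autoImplicit false

universe u

namespace Cfsg.Agent.OddOrder.BG11

open Subgroup H40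

variable {G : Type u} [Group G] [Finite G] {p : ℕ} [hp : Fact p.Prime]

omit hp in
theorem card_compl {M E : Subgroup G} (hE : Cfsg.IsComplIn E (Cfsg.sigmaCore M) M) :
    Nat.card M = Nat.card (Cfsg.sigmaCore M) * Nat.card E := by
  have hn : E ≤ normalizer (Cfsg.sigmaCore M : Set G) :=
    hE.1.trans (OddOrder.le_normalizer_piCoreOf (Cfsg.sigma M) M)
  rw [← Coprime.card_sup hn ((inf_comm _ _).trans hE.2.2.1)]
  have e : Cfsg.sigmaCore M ⊔ E = M := by
    refine le_antisymm (sup_le (map_subtype_le _) hE.1) fun m hm => ?_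
    obtain ⟨a, ha, b, hb, rfl⟩ := hE.2.2.2 m hm
    exact mul_mem (mem_sup_right ha) (mem_sup_left hb)
  rw [e]

/-- A Sylow subgroup of a complement of `M_σ` for a prime outside `σ(M)` is one of `M`. -/
theorem isSylowOf_of_compl {M E P : Subgroup G} (hE : Cfsg.IsComplIn E (Cfsg.sigmaCore M) M)
    (hs : p ∉ Cfsg.sigma M) (hP : IsSylowOf p P E) : IsSylowOf p P M := by
  refine ⟨hP.1.trans hE.1, hP.2.1, ?_⟩
  have h0 : (Nat.card (Cfsg.sigmaCore M)).factorization p = 0 :=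
    Nat.factorization_eq_zero_of_not_dvd fun h =>
      hs (OddOrder.piCoreOf_isPiNumber (Cfsg.sigma M) M p hp.out h)
  rw [hP.2.2, card_compl hE, Nat.factorization_mul Nat.card_pos.ne' Nat.card_pos.ne',
    Finsupp.add_apply, h0, zero_add]

/-- The elements of order dividing `p` of a cyclic group with a subgroup of order `p`. -/
theorem mem_of_pow_cyclic {P X : Subgroup G} (hP : IsCyclic P) (hXP : X ≤ P) (hX : Nat.card X = p)
    {s : G} (hs : s ∈ P) (hsp : s ^ p = 1) : s ∈ X := by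
  by_cases h1 : s = 1
  · exact h1 ▸ one_mem X
  have e : zpowers s = X := H41.eq_of_card_eq_of_le_cyclic hP (zpowers_le.mpr hs) hXP
    (by rw [Nat.card_zpowers, orderOf_eq_prime hsp h1, hX])
  exact e ▸ mem_zpowers s

theorem isMulCommutative_all_sylow (S : Sylow p G) (h : IsMulCommutative (S : Subgroup G))
    (T : Sylow p G) : IsMulCommutative (T : Subgroup G) := by
  obtain ⟨e⟩ : Nonempty ((S : Subgroup G) ≃* (T : Subgroup G)) := ⟨Sylow.equiv S T⟩
  exact ⟨⟨fun a b => e.symm.injective (by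
    rw [map_mul, map_mul]
    exact h.is_comm.comm _ _)⟩⟩

namespace Section10

variable (S10 : Section10 G) {M E : Subgroup G}
include S10

/-- The kernel of BG 13.3 (a): no subgroup `Y = [Y,S] ≠ 1` of `M_σ` centralizes `Ω₁(S)`. -/
theorem false_of_commutator_eq (hM : IsCoatom M) (hs : p ∉ Cfsg.sigma M) {S X Y : Subgroup G}
    (hSM : IsSylowOf p S M) (hSc : IsCyclic S) (hXS : X ≤ S) (hXc : Nat.card X = p)
    {q : ℕ} [hq : Fact q.Prime] (hYq : IsPGroup q Y) (hY1 : Y ≠ ⊥)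
    (hYσ : Y ≤ Cfsg.sigmaCore M) (hYX : Y ≤ centralizer (X : Set G))
    (hSY : S ≤ normalizer (Y : Set G)) (hYS : ⁅Y, S⁆ = Y) : False := by
  have hG := S10.minSimple
  have hp' : p.Prime := hp.out
  have hX1 : X ≠ ⊥ := ne_bot_of_card (hXc ▸ hp'.one_lt)
  have hSd : p ∣ Nat.card S := hXc ▸ card_dvd_of_le hXS
  obtain ⟨H, hH, hNH⟩ := exists_coatom_ge
    (normalizer_ne_top' hG hX1 (ne_top_of_le_coatom hM (hXS.trans hSM.1)))
  have hNS : normalizer (S : Set G) ≤ H := (normalizer_le_of_le_cyclic hSc hXS).trans hNH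
  have hSH : S ≤ H := le_normalizer.trans hNS
  have hYH : Y ≤ H := hYX.trans ((centralizer_le_normalizer _).trans hNH)
  have hnc : ∀ g : G, H ≠ cj g M := by
    rintro g rfl
    refine hs ?_
    have h1 : IsSylowOf p S (cj g M) := ⟨hSH, hSM.2.1, by rw [card_cj]; exact hSM.2.2⟩
    have h2 := mem_sigma_cj g⁻¹
      (mem_sigma_of_normalizer_le (hSd.trans (card_dvd_of_le hSH)) h1 hNS)
    rwa [cj_inv_cj] at h2
  have hqd : q ∣ Nat.card Y := by
    obtain ⟨k, hk⟩ := IsPGroup.iff_card.mp hYq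
    rw [hk]
    refine dvd_pow_self q fun h0 => hY1 ?_
    rw [h0, pow_zero] at hk
    exact eq_bot_of_card_eq Y hk
  have hqs : q ∈ Cfsg.sigma M := OddOrder.piCoreOf_isPiNumber (Cfsg.sigma M) M q hq.out
    (hqd.trans (card_dvd_of_le hYσ))
  have hqp : p ≠ q := fun e => hs (e ▸ hqs)
  have hnot : q ∈ Cfsg.sigma H →
      q ∈ Cfsg.alpha H ∨ Group.IsNilpotent (Cfsg.sigmaCore H) → False := fun h1 h2 => by
    obtain ⟨g, hg⟩ := S10.exists_cj_eq hH hM h1 hqs h2
    exact hnc g hg.symm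
  have hY' : Y ≤ ⁅H, H⁆ := hYS.ge.trans (commutator_mono hYH hSH)
  by_cases hpH : p ∈ Cfsg.sigma H
  · have hS' : S ≤ ⁅H, H⁆ :=
      (S10.le_sigmaCore_of_isPGroup hH hpH hSH hSM.2.1).trans (S10.sigmaCore_le_derived H hH)
    by_cases hb : q ∈ Cfsg.beta H
    · exact hnot (S10.alpha_subset_sigma hH hb.1) (Or.inl hb.1)
    · refine hY1 (hYS.symm.trans (commutator_eq_bot_iff_le_centralizer.mpr
        (le_centralizer_iff.mp ?_)))
      exact S10.le_centralizer_of_not_beta hH hqp hSM.2.1 hYq hS' hY' hSY hb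
  have hrk : ∀ T : Subgroup G, IsSylowOf p T H → X ≤ T → ¬ Cfsg.PRankLE p 1 T := by
    intro T hT hXT hr
    exact hpH (mem_sigma_of_normalizer_le (hSd.trans (card_dvd_of_le hSH)) hT
      ((normalizer_le_of_le_cyclic (isCyclic_of_pRankLE_one
        (ne_two_of_mem_card hG hSd) hT.2.1 hr) hXT).trans hNH))
  have hτ : p ∈ Cfsg.tau2 H := by
    refine ⟨hp', hpH, S10.pRankLE_two hH hpH, fun hr => ?_⟩
    obtain ⟨T, hT, hST⟩ := exists_sylowOf_ge' hSM.2.1 hSH
    exact hrk T hT (hXS.trans hST) (pRankLE_of_le hT.1 hr)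
  obtain ⟨T₀, hT₀, -⟩ := exists_sylowOf_ge' hSM.2.1 hSH
  obtain ⟨B, hBH, hB, hB2⟩ := exists_elemAb_sq hτ.2.2.2
  have hnil := (S10.tauTwo_structure hH hτ ⟨hBH, hB, hB2⟩).1
  have hqH : q ∉ Cfsg.sigma H := fun h => hnot h (Or.inr hnil)
  have hd : Y ⊓ S = ⊥ := Coprime.inf_eq_bot (by
    obtain ⟨i, hi⟩ := IsPGroup.iff_card.mp hYq
    obtain ⟨j, hj⟩ := IsPGroup.iff_card.mp hSM.2.1
    rw [hi, hj]
    exact ((Nat.coprime_primes hq.out hp').mpr hqp.symm).pow i j)
  obtain ⟨F, hF, hUF⟩ := S10.exists_compl_ge hH (sup_le hYH hSH : Y ⊔ S ≤ H) (fun r hr hd' => by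
    rw [Coprime.card_sup hSY hd] at hd'
    rcases hr.dvd_mul.mp hd' with h | h
    · obtain ⟨i, hi⟩ := IsPGroup.iff_card.mp hYq
      rw [hi] at h
      exact (Nat.prime_eq_prime_of_dvd_pow hr hq.out h) ▸ hqH
    · obtain ⟨j, hj⟩ := IsPGroup.iff_card.mp hSM.2.1
      rw [hj] at h
      exact (Nat.prime_eq_prime_of_dvd_pow hr hp' h) ▸ hpH)
  obtain ⟨T, hT, hST⟩ := exists_sylowOf_ge' hSM.2.1 (le_sup_right.trans hUF : S ≤ F)
  have hTH : IsSylowOf p T H := isSylowOf_of_compl hF hpH hT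
  obtain ⟨A, hAT, hA, hA2⟩ := exists_elemAb_sq (M := T) (hrk T hTH (hXS.trans hST))
  have hAF : A ≤ F := hAT.trans hT.1
  by_cases hab : ∀ R : Sylow p G, IsMulCommutative (R : Subgroup G)
  · obtain ⟨-, hn⟩ := S10.sylow_normal_of_abelian hH hF hτ hab ⟨hAF, hA, hA2⟩ hTH hAT hT.1
    have hYT : ⁅Y, T⁆ ≤ T := Coprime.commutator_le_left_of_normalizer
      (le_sup_left.trans (hUF.trans hn)) |> (commutator_comm Y T).le.trans
    refine hY1 (eq_bot_iff.mpr ((le_inf le_rfl ?_).trans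
      (Coprime.inf_eq_bot (H := Y) (K := T) ?_).le))
    · exact hYS.ge.trans ((commutator_mono le_rfl hST).trans hYT)
    · obtain ⟨i, hi⟩ := IsPGroup.iff_card.mp hYq
      obtain ⟨j, hj⟩ := IsPGroup.iff_card.mp hT.2.1
      rw [hi, hj]
      exact ((Nat.coprime_primes hq.out hp').mpr hqp.symm).pow i j
  push Not at hab
  obtain ⟨R, hR⟩ := hab
  have hna : ∀ R' : Sylow p G, ¬ IsMulCommutative (R' : Subgroup G) :=
    fun R' h => hR (isMulCommutative_all_sylow R' h R)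
  obtain ⟨A₀, hA₀, hA₀c, -, hlines, hpow, -⟩ :=
    S10.nonabelian_lines hH hpH hna (hAT.trans hTH.1) hA hA2
  have hXA : X ≤ A := (S10.compl_le_normalizer hH hF hpH hAF hA hA2).2 X
    ((hXS.trans le_sup_right).trans hUF) hXc
  have hXA₀ : X = A₀ := by
    by_contra hne
    exact (hlines X hXA hXc hne).2 ((centralizer_le_normalizer _).trans hNH)
  have key : ∀ i : ℕ, ∀ s ∈ S, s ^ p ^ (i + 1) = 1 → s ^ p = 1 := by
    intro i
    induction i with
    | zero => intro s _ h; simpa using h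
    | succ i ih =>
      intro s hs' h
      refine hpow T hTH hAT s (hST hs') (hXA₀ ▸ mem_of_pow_cyclic hSc hXS hXc (S.pow_mem hs' p) ?_)
      refine ih _ (S.pow_mem hs' p) ?_
      rwa [← pow_mul, ← pow_succ']
  have hSX : S ≤ X := fun s hs' => by
    obtain ⟨i, hi⟩ := hSM.2.1 ⟨s, hs'⟩
    refine mem_of_pow_cyclic hSc hXS hXc hs' (key i s hs' ?_)
    rw [pow_succ, pow_mul]
    rw [show s ^ p ^ i = 1 from congrArg Subtype.val hi, one_pow]
  refine hY1 (hYS.symm.trans (commutator_eq_bot_iff_le_centralizer.mpr ?_))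
  exact hYX.trans (Subgroup.centralizer_le hSX)

/-- BG 13.3 (a). -/
theorem cyclic_sylow_prime_action (hM : IsCoatom M) (hE : Cfsg.IsComplIn E (Cfsg.sigmaCore M) M)
    {S : Subgroup G} (hS : IsSylowOf p S E) (hS1 : S ≠ ⊥) (hSc : IsCyclic S) {x : G} (hx : x ∈ S)
    (hx1 : x ≠ 1) :
    Cfsg.sigmaCore M ⊓ centralizer ({x} : Set G) =
      Cfsg.sigmaCore M ⊓ centralizer (S : Set G) := by
  refine le_antisymm ?_ (inf_le_inf_left _ (Subgroup.centralizer_le (Set.singleton_subset_iff.mpr hx)))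
  obtain ⟨X, hXS, hXc⟩ : ∃ X ≤ zpowers x, Nat.card X = p := by
    have hd : p ∣ Nat.card (zpowers x) := by
      obtain ⟨i, hi⟩ := IsPGroup.iff_card.mp (hS.2.1.to_le (zpowers_le.mpr hx))
      rw [hi]
      refine dvd_pow_self p fun h0 => hx1 ?_
      rw [h0, pow_zero] at hi
      exact zpowers_eq_bot.mp (eq_bot_of_card_eq _ hi)
    obtain ⟨y, hy⟩ := exists_prime_orderOf_dvd_card' p hd
    exact ⟨zpowers (y : G), zpowers_le.mpr y.2, by rw [Nat.card_zpowers, orderOf_coe, hy]⟩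
  have hXS' : X ≤ S := hXS.trans (zpowers_le.mpr hx)
  have hpd : p ∣ Nat.card E := hXc ▸ card_dvd_of_le (hXS'.trans hS.1)
  have hs : p ∉ Cfsg.sigma M := not_mem_sigma_of_dvd_compl (S10.sigmaCore_hall M hM).1 hE hp.out hpd
  have hSM := isSylowOf_of_compl hE hs hS
  set Y₀ := Cfsg.sigmaCore M ⊓ centralizer (X : Set G) with hY₀
  refine (le_inf inf_le_left ?_ : _ ≤ Y₀).trans (le_inf inf_le_left ?_)
  · intro c hc
    refine mem_centralizer_iff.mpr fun a ha => ?_
    obtain ⟨i, rfl⟩ := mem_zpowers_iff.mp (hXS ha)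
    exact (Commute.zpow_left (mem_centralizer_iff.mp hc.2 x rfl : x * c = c * x) i).eq
  have hSσ : S ≤ normalizer (Cfsg.sigmaCore M : Set G) :=
    hSM.1.trans (OddOrder.le_normalizer_piCoreOf (Cfsg.sigma M) M)
  have hScent : S ≤ centralizer (X : Set G) := by
    haveI := hSc
    exact fun s hs' => mem_centralizer_iff.mpr fun a ha =>
      congrArg Subtype.val (mul_comm' (⟨a, hXS' ha⟩ : S) ⟨s, hs'⟩)
  have hSY₀ : S ≤ normalizer (Y₀ : Set G) := (le_inf hSσ (hScent.trans le_normalizer)).trans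
    inf_normalizer_le_normalizer_inf
  have hcop : ∀ {Y : Subgroup G}, Y ≤ Y₀ → (Nat.card S).Coprime (Nat.card Y) := fun {Y} hY => by
    obtain ⟨j, hj⟩ := IsPGroup.iff_card.mp hS.2.1
    rw [hj]
    exact (hp.out.coprime_iff_not_dvd.mpr fun h => hs (OddOrder.piCoreOf_isPiNumber (Cfsg.sigma M) M p
      hp.out (h.trans (card_dvd_of_le (hY.trans inf_le_left))))).pow_left j
  have hSsol : Group.IsSolvable S := by haveI := hSc; exact Coprime.isSolvable_of_isMulCommutative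
  suffices h : Nat.card Y₀ ∣ Nat.card ↥(Y₀ ⊓ centralizer (S : Set G)) from
    (eq_of_le_of_card_ge inf_le_left (Nat.le_of_dvd Nat.card_pos h)).ge.trans inf_le_right
  refine (Nat.factorization_prime_le_iff_dvd Nat.card_pos.ne' Nat.card_pos.ne').mp fun q hq => ?_
  haveI := Fact.mk hq
  obtain ⟨P, hP⟩ := Coprime.exists_invariant_sylow hSY₀ (hcop le_rfl) (Or.inl hSsol) q
  set R := (P : Subgroup Y₀).map Y₀.subtype with hR
  have hRY : R ≤ Y₀ := map_subtype_le _
  have hRc : S ≤ centralizer (R : Set G) := by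
    by_contra hne
    set Y := ⁅R, S⁆ with hY
    have hYR : Y ≤ R := Coprime.commutator_le_left_of_normalizer hP
    have hY1 : Y ≠ ⊥ := fun h => hne
      (le_centralizer_iff.mp (commutator_eq_bot_iff_le_centralizer.mp h))
    exact S10.false_of_commutator_eq hM hs hSM hSc hXS' hXc ((P.isPGroup'.map _).to_le hYR) hY1
      ((hYR.trans hRY).trans inf_le_left) ((hYR.trans hRY).trans inf_le_right)
      (normalizer_commutator_ge_right R S)
      (Coprime.commutator_commutator_eq hP (hcop hRY) (Or.inl hSsol))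
  have h1 : q ^ (Nat.card Y₀).factorization q ∣ Nat.card ↥(Y₀ ⊓ centralizer (S : Set G)) :=
    (isSylowOf_map P).2.2.symm.dvd.trans (card_dvd_of_le (le_inf hRY (le_centralizer_iff.mp hRc)))
  exact (hq.pow_dvd_iff_le_factorization Nat.card_pos.ne').mp h1

/-- BG 14.1: `Ω₁` of a Sylow subgroup outside `σ(M) ∪ κ(M)`. -/
theorem small_sylow_omega (hM : IsCoatom M) (hpM : p ∣ Nat.card M)
    (hps : p ∉ Cfsg.sigma M) (hpk : p ∉ Cfsg.kappa M) {P : Subgroup G} (hP : IsSylowOf p P M) :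
    Nat.card ↥(closure {x : G | x ∈ P ∧ x ^ p = 1}) ≤ p ^ 2 ∧
      Cfsg.sigmaCore M ⊓ centralizer ((closure {x : G | x ∈ P ∧ x ^ p = 1} : Subgroup G) : Set G) = ⊥ ∧
      Group.IsNilpotent (Cfsg.sigmaCore M) := by
  have hG := S10.minSimple
  by_cases hr : Cfsg.PRankLE p 1 M
  swap
  · obtain ⟨B, hBM, hB, hB2⟩ := exists_elemAb_sq hr
    obtain ⟨m, hm, hA⟩ := exists_conj_le hP (IsPGroup.of_card hB2) hBM
    set A := cj m B
    have hA' : A ≤ M ∧ Cfsg.IsElementaryAbelian p A ∧ Nat.card A = p ^ 2 :=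
      ⟨hA.trans hP.1, elemAb_cj hB m, (card_cj m B).trans hB2⟩
    obtain ⟨hnil, hsyl, -, hC, -, -⟩ :=
      S10.tauTwo_structure hM ⟨hp.out, hps, S10.pRankLE_two hM hps, hr⟩ hA'
    obtain ⟨P₀, hP₀⟩ := exists_sylow_eq hP
    have hmem := ((hsyl P₀).2 (hP₀.symm ▸ hA)).1
    rw [hP₀] at hmem
    have e : closure {x : G | x ∈ P ∧ x ^ p = 1} = A := le_antisymm
      (closure_le _ |>.mpr fun x hx => (hmem x hx.1).mp hx.2)
      fun x hx => subset_closure ⟨hA hx, hA'.2.1.2 x hx⟩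
    rw [e]
    exact ⟨hA'.2.2.le, hC, hnil⟩
  have hcyc : ∀ R : Subgroup G, IsSylowOf p R M → IsCyclic R := fun R hR =>
    isCyclic_of_pRankLE_one (ne_two_of_mem_card hG hpM) hR.2.1 (pRankLE_of_le hR.1 hr)
  have hdP : p ∣ Nat.card P := by
    rw [hP.2.2]
    exact dvd_pow_self p (hp.out.factorization_pos_of_dvd Nat.card_pos.ne' hpM).ne'
  obtain ⟨⟨x, hxP⟩, hx⟩ := exists_prime_orderOf_dvd_card' p hdP
  rw [Subgroup.orderOf_mk] at hx
  have hxc : Nat.card (zpowers x) = p := by rw [Nat.card_zpowers, hx]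
  have e : closure {x : G | x ∈ P ∧ x ^ p = 1} = zpowers x := le_antisymm
    (closure_le _ |>.mpr fun y hy =>
      mem_of_pow_cyclic (hcyc P hP) (zpowers_le.mpr hxP) hxc hy.1 hy.2)
    (zpowers_le.mpr (subset_closure ⟨hxP, orderOf_dvd_iff_pow_eq_one.mp hx.dvd⟩))
  have hfix : ∀ y ∈ Cfsg.sigmaCore M, x * y = y * x → y = 1 := by
    intro y hy hxy
    by_contra hy1
    refine hpk ⟨hp.out, hpM, hps, fun P' => ?_⟩
    have hP' := isSylowOf_map P'
    constructor
    · haveI := hcyc _ hP'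
      exact isCyclic_of_surjective
        ((P' : Subgroup M).equivMapOfInjective _ M.subtype_injective).symm
        ((P' : Subgroup M).equivMapOfInjective _ M.subtype_injective).symm.surjective
    · obtain ⟨m, hm, hmP⟩ := exists_conj_eq hP' hP
      obtain ⟨z, hz, hze⟩ : m * x * m⁻¹ ∈ (P' : Subgroup M).map M.subtype :=
        hmP ▸ conj_mem_cj m hxP
      refine ⟨z, hz, fun h => ?_, m * y * m⁻¹,
        (mem_normalizer_iff.mp (OddOrder.le_normalizer_piCoreOf (Cfsg.sigma M) M hm) y).mp hy,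
        fun h => hy1 (conj_eq_one_iff.mp h), ?_⟩
      · rw [h] at hze
        have h1 : x = 1 := conj_eq_one_iff.mp hze.symm
        rw [h1, orderOf_one] at hx
        exact hp.out.ne_one hx.symm
      · rw [show (z : G) = m * x * m⁻¹ from hze]
        calc m * x * m⁻¹ * (m * y * m⁻¹) = m * (x * y) * m⁻¹ := by group
          _ = m * (y * x) * m⁻¹ := by rw [hxy]
          _ = m * y * m⁻¹ * (m * x * m⁻¹) := by group
  rw [e]
  refine ⟨hxc.le.trans (Nat.le_self_pow (by norm_num) p), eq_bot_iff.mpr fun y hy => mem_bot.mpr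
    (hfix y hy.1 (mem_centralizer_iff.mp hy.2 x (mem_zpowers x))), ?_⟩
  set Y := normalizer (Cfsg.sigmaCore M : Set G)
  have hxY : x ∈ Y := OddOrder.le_normalizer_piCoreOf (Cfsg.sigma M) M (hP.1 hxP)
  haveI : ((Cfsg.sigmaCore M).subgroupOf Y).Normal := normal_in_normalizer
  haveI hnil : Group.IsNilpotent ((Cfsg.sigmaCore M).subgroupOf Y) :=
    Frobenius.isNilpotent_of_centralizer (h := (⟨x, hxY⟩ : Y)) hp.out
      (Subtype.ext (orderOf_dvd_iff_pow_eq_one.mp hx.dvd))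
      fun k hk hc => Subtype.ext (hfix k hk (congrArg Subtype.val hc))
  exact Group.nilpotent_of_mulEquiv (subgroupOfEquivOfLe le_normalizer)

end Section10

end Cfsg.Agent.OddOrder.BG11
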