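import Cfsg.Agent.OddOrder.BG11.Abelian
import Cfsg.Agent.OddOrder.BG10.Cores
import Cfsg.Agent.PGroups.Basic
import Cfsg.Agent.PGroups.Commutator

/-!
BG 12.13: a nonabelian `p`-subgroup lies in exactly one maximal subgroup.
-/

set_option autoImplicit false

universe u

namespace Cfsg.Agent.OddOrder.BG11

open Subgroup H40
open scoped commutatorElement

variable {G : Type u} [Group G] [Finite G] {p : ℕ} [hp : Fact p.Prime]

omit [Finite G] hp in
theorem isMulCommutative_of_le {A B : Subgroup G} (hB : IsMulCommutative B) (h : A ≤ B) :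
    IsMulCommutative A :=
  ⟨⟨fun a b => Subtype.ext (congrArg Subtype.val (hB.is_comm.comm (⟨a, h a.2⟩ : B) ⟨b, h b.2⟩) :
    (a : G) * b = b * a)⟩⟩

omit hp in
theorem not_isCyclic_of_nonabelian {P : Subgroup G} (h : ¬ IsMulCommutative P) : ¬ IsCyclic P :=
  fun hc => h (by haveI := hc; infer_instance)

/-- The centre of a nonabelian group of order `p ^ 3`. -/
theorem card_inf_centralizer_of_card_cube {P₁ : Subgroup G} (hna : ¬ IsMulCommutative P₁)
    (hc : Nat.card P₁ = p ^ 3) : Nat.card ↥(P₁ ⊓ centralizer (P₁ : Set G)) = p := by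
  have hp' : p.Prime := hp.out
  have e : (center ↥P₁).map P₁.subtype = P₁ ⊓ centralizer (P₁ : Set G) := by
    refine le_antisymm ?_ ?_
    · rintro _ ⟨z, hz, rfl⟩
      exact ⟨z.2, mem_centralizer_iff.mpr fun y hy =>
        congrArg Subtype.val (mem_center_iff.mp hz ⟨y, hy⟩)⟩
    · rintro z ⟨hz, hzc⟩
      exact ⟨⟨z, hz⟩, mem_center_iff.mpr fun y =>
        Subtype.ext (mem_centralizer_iff.mp hzc y y.2), rfl⟩
  rw [← e, card_map_of_injective P₁.subtype_injective]
  have hP : IsPGroup p P₁ := IsPGroup.of_card hc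
  haveI : Nontrivial P₁ := Finite.one_lt_card_iff_nontrivial.mp
    (by rw [hc]; exact Nat.one_lt_pow (by norm_num) hp'.one_lt)
  haveI := hP.center_nontrivial
  obtain ⟨k, hk3, hk⟩ := (Nat.dvd_prime_pow hp').mp (hc ▸ (center ↥P₁).card_subgroup_dvd_card)
  have hidx : Nat.card (center ↥P₁) * (center ↥P₁).index = p ^ 3 := by rw [card_mul_index, hc]
  rw [hk] at hidx
  interval_cases k
  · exact absurd hk (Finite.one_lt_card.ne').elim
  · rw [hk, pow_one]
  · refine absurd ?_ (PGroups.center_index_ne_prime (G := ↥P₁) (p := p))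
    have h2 : (p ^ 2) * (center ↥P₁).index = p ^ 2 * p := by rw [hidx]; ring
    exact Nat.eq_of_mul_eq_mul_left (pow_pos hp'.pos 2) h2
  · refine absurd ?_ hna
    have htop : center ↥P₁ = ⊤ := eq_top_of_card_eq _ (hk.trans hc.symm)
    exact ⟨⟨fun a b => (mem_center_iff.mp (htop ▸ mem_top b : b ∈ center ↥P₁) a)⟩⟩

/-- In a nonabelian group of order `p ^ 3` the lines of `A₀ Z` other than `Z` are conjugate. -/
theorem exists_cj_line {P₁ A₀ A' : Subgroup G} (hna : ¬ IsMulCommutative P₁)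
    (hc : Nat.card P₁ = p ^ 3) (h0 : A₀ ≤ P₁) (h0c : Nat.card A₀ = p)
    (h0Z : A₀ ≠ P₁ ⊓ centralizer (P₁ : Set G)) (hle : A' ≤ A₀ ⊔ (P₁ ⊓ centralizer (P₁ : Set G)))
    (hc' : Nat.card A' = p) (hne' : A' ≠ P₁ ⊓ centralizer (P₁ : Set G)) :
    ∃ g ∈ P₁, cj g A₀ = A' := by
  have hp' : p.Prime := hp.out
  set Z := P₁ ⊓ centralizer (P₁ : Set G) with hZ
  have hZc : Nat.card Z = p := card_inf_centralizer_of_card_cube hna hc
  have hP : IsPGroup p P₁ := IsPGroup.of_card hc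
  obtain ⟨a, ha, ha1⟩ : ∃ a ∈ A₀, a ≠ (1 : G) := by
    obtain ⟨⟨a, ha⟩, ha'⟩ := (A₀.ne_bot_iff_exists_ne_one).mp (ne_bot_of_card (h0c ▸ hp'.one_lt))
    exact ⟨a, ha, fun e => ha' (Subtype.ext e)⟩
  have hgen : ∀ {B : Subgroup G}, Nat.card B = p → ∀ {b : G}, b ∈ B → b ≠ 1 → zpowers b = B := by
    intro B hB b hb hb1
    refine eq_of_le_of_card_ge (zpowers_le.mpr hb) ?_
    rw [hB, Nat.card_zpowers]
    have hd : orderOf b ∣ p := hB ▸ B.orderOf_dvd_natCard hb
    rcases (Nat.dvd_prime hp').mp hd with h | h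
    · exact absurd (orderOf_eq_one_iff.mp h) hb1
    · exact h.ge
  have haA : zpowers a = A₀ := hgen h0c ha ha1
  have haZ : a ∉ Z := fun h => h0Z (haA ▸ hgen hZc h ha1)
  obtain ⟨b, hb, hba⟩ : ∃ b ∈ P₁, ¬ b * a = a * b := by
    by_contra hno
    push Not at hno
    exact haZ ⟨h0 ha, mem_centralizer_iff.mpr hno⟩
  -- commutators are central
  have hder : ∀ x ∈ P₁, ∀ y ∈ P₁, ⁅x, y⁆ ∈ Z := by
    intro x hx y hy
    have hidx : (center ↥P₁).index ∣ p ^ 2 := by
      have h1 : Nat.card (center ↥P₁) * (center ↥P₁).index = p ^ 3 := by rw [card_mul_index, hc]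
      have h2 : Nat.card (center ↥P₁) = p := by
        rw [← card_inf_centralizer_of_card_cube hna hc, ← card_map_of_injective P₁.subtype_injective]
        congr 1
        rw [show (center ↥P₁).map P₁.subtype = P₁ ⊓ centralizer (P₁ : Set G) from ?_]
        refine le_antisymm ?_ ?_
        · rintro _ ⟨z, hz, rfl⟩
          exact ⟨z.2, mem_centralizer_iff.mpr fun y hy =>
            congrArg Subtype.val (mem_center_iff.mp hz ⟨y, hy⟩)⟩
        · rintro z ⟨hz, hzc⟩
          exact ⟨⟨z, hz⟩, mem_center_iff.mpr fun y =>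
            Subtype.ext (mem_centralizer_iff.mp hzc y y.2), rfl⟩
      rw [h2] at h1
      exact ⟨1, by rw [mul_one]; exact (Nat.eq_of_mul_eq_mul_left hp'.pos (h1.trans (by ring))).symm⟩
    have h3 := PGroups.commutator_le_of_index_dvd_sq (center ↥P₁) hidx
      (commutator_mem_commutator (mem_top (⟨x, hx⟩ : P₁)) (mem_top ⟨y, hy⟩))
    exact ⟨P₁.mul_mem (P₁.mul_mem (P₁.mul_mem hx hy) (P₁.inv_mem hx)) (P₁.inv_mem hy),
      mem_centralizer_iff.mpr fun z hz => congrArg Subtype.val (mem_center_iff.mp h3 ⟨z, hz⟩)⟩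
  set w := ⁅b, a⁆ with hw
  have hwZ : w ∈ Z := hder b hb a (h0 ha)
  have hw1 : w ≠ 1 := fun h => hba (commutatorElement_eq_one_iff_mul_comm.mp h)
  have hwgen : zpowers w = Z := hgen hZc hwZ hw1
  -- a generator of `A'` of the form `a * z`
  obtain ⟨a', ha', ha'1⟩ : ∃ a' ∈ A', a' ≠ (1 : G) := by
    obtain ⟨⟨a', ha'⟩, h⟩ := (A'.ne_bot_iff_exists_ne_one).mp (ne_bot_of_card (hc' ▸ hp'.one_lt))
    exact ⟨a', ha', fun e => h (Subtype.ext e)⟩
  obtain ⟨x, hx, z, hz, hxz⟩ : ∃ x ∈ A₀, ∃ z ∈ Z, x * z = a' := by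
    refine (Coprime.mem_sup_iff fun z hz => centralizer_le_normalizer (s := (A₀ : Set G)) ?_).mp (hle ha')
    exact Subgroup.centralizer_le h0 hz.2
  obtain ⟨i, hi⟩ := mem_zpowers_iff.mp (haA ▸ hx : x ∈ zpowers a)
  have hx1 : x ≠ 1 := by
    rintro rfl
    rw [one_mul] at hxz
    subst hxz
    exact hne' ((hgen hc' ha' ha'1).symm.trans (hgen hZc hz ha'1))
  have haz : Commute x z := mem_centralizer_iff.mp hz.2 x (h0 hx)
  obtain ⟨j, hj⟩ := mem_zpowers_iff.mp ((hgen h0c hx hx1).ge ha)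
  have ha'' : a * z ^ j ∈ A' := by
    rw [← hj, ← haz.mul_zpow, hxz]
    exact zpow_mem ha' j
  obtain ⟨k, hk⟩ := mem_zpowers_iff.mp (hwgen.ge (zpow_mem hz j))
  have hpw : w ^ p = 1 :=
    orderOf_dvd_iff_pow_eq_one.mp (hZc ▸ Z.orderOf_dvd_natCard hwZ)
  obtain ⟨n, hn⟩ : ∃ n : ℕ, w ^ n = z ^ j := by
    have h1 : z ^ j ∈ Submonoid.powers w :=
      (isOfFinOrder_of_finite w).mem_powers_iff_mem_zpowers.mpr (mem_zpowers_iff.mpr ⟨k, hk⟩)
    exact (Submonoid.mem_powers_iff _ _).mp h1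
  refine ⟨b ^ n, P₁.pow_mem hb n, ?_⟩
  have hconj : b ^ n * a * (b ^ n)⁻¹ = a * z ^ j := by
    have hcen : ∀ u ∈ P₁, ∀ v ∈ Z, u * v = v * u := fun u hu v hv => mem_centralizer_iff.mp hv.2 u hu
    have h1 : ⁅b ^ n, a⁆ = w ^ n := congrArg Subtype.val
      (PGroups.commutatorElement_pow_left_of_mem_center (a := (⟨b, hb⟩ : P₁)) (b := ⟨a, h0 ha⟩)
        (mem_center_iff.mpr fun u => Subtype.ext (hcen u u.2 w hwZ)) n)
    rw [show b ^ n * a * (b ^ n)⁻¹ = ⁅b ^ n, a⁆ * a by simp [commutatorElement_def], h1, hn]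
    exact (hcen a (h0 ha) _ (zpow_mem hz j)).symm
  have h1 : a * z ^ j ≠ 1 := by
    rw [← hconj]
    exact fun e => ha1 (by simpa using e)
  rw [← haA, cj, MonoidHom.map_zpowers]
  show zpowers (b ^ n * a * (b ^ n)⁻¹) = A'
  rw [hconj]
  exact hgen hc' ha'' h1

namespace Section10

variable (S10 : Section10 G)
include S10

/-- A nonabelian `p`-subgroup of `M` forces `p ∈ σ(M)`. -/
theorem sigma_of_nonabelian {M P : Subgroup G} (hM : IsCoatom M) (hP : IsPGroup p P) (hPM : P ≤ M)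
    (hna : ¬ IsMulCommutative P) : p ∈ Cfsg.sigma M := by
  by_contra hs
  refine hna (S10.commute_nilpotent hM hPM hP.isNilpotent fun l hl hd => ?_)
  obtain ⟨k, hk⟩ := IsPGroup.iff_card.mp hP
  rw [hk] at hd
  exact (Nat.prime_eq_prime_of_dvd_pow hl hp.out hd) ▸ hs

omit hp in
/-- `M = M_α N_M(S)` for a Sylow subgroup `S` of a prime in `σ(M)`. -/
theorem exists_alpha_mul_normalizer [Fact p.Prime] {M S : Subgroup G} (hM : IsCoatom M) (hs : p ∈ Cfsg.sigma M)
    (hS : IsSylowOf p S M) :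
    ∀ m ∈ M, ∃ k ∈ Cfsg.alphaCore M, ∃ n ∈ M, n ∈ normalizer (S : Set G) ∧ k * n = m := by
  obtain ⟨S₀, hS₀⟩ := exists_sylow_eq hS
  haveI : Group.IsSolvable M := S10.isSolvable_max hM
  set O := Cfsg.piCore (Cfsg.alpha M) ↥M with hO
  haveI : O.Normal := piCore_normal _ _
  set π := QuotientGroup.mk' O with hπ
  obtain ⟨-, -, -, -, hnil⟩ := S10.alphaCore_spec M hM
  have hSd : (S₀ : Subgroup M) ≤ commutator M := by
    intro x hx
    have h1 : (x : G) ∈ ⁅M, M⁆ := S10.sigmaCore_le_derived M hM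
      (S10.le_sigmaCore_of_isPGroup hM hs hS.1 hS.2.1 (hS₀ ▸ ⟨x, hx, rfl⟩))
    obtain ⟨y, hy, hyx⟩ := (map_subtype_commutator M).ge h1
    rwa [← Subtype.ext hyx]
  haveI : ((commutator ↥M).map π).Normal :=
    (inferInstance : (commutator ↥M).Normal).map _ (QuotientGroup.mk'_surjective O)
  have hle : (S₀ : Subgroup M).map π ≤ Cfsg.pCore p (↥M ⧸ O) :=
    BG10.le_pCore_of_le_fitting (S₀.isPGroup'.map _)
      ((map_mono hSd).trans (Cores.le_fittingSubgroup hnil))
  have hsur : Function.Surjective π := QuotientGroup.mk'_surjective O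
  have heq : (S₀ : Subgroup M).map π = Cfsg.pCore p (↥M ⧸ O) := by
    refine le_antisymm hle ?_
    have := Cores.pCore_le_sylow (p := p) (S₀.mapSurjective hsur)
    rwa [Sylow.coe_mapSurjective] at this
  haveI : ((S₀ : Subgroup M) ⊔ O).Normal := by
    have h : (S₀ : Subgroup M) ⊔ O = (Cfsg.pCore p (↥M ⧸ O)).comap π := by
      rw [← heq, comap_map_eq, hπ, QuotientGroup.ker_mk']
    rw [h]
    exact (pCore_normal p _).comap _
  have htop : normalizer ((S₀ : Subgroup M) : Set M) ⊔ O = ⊤ := by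
    refine top_le_iff.mp ?_
    rw [← Sylow.normalizer_sup_eq_top' S₀ (le_sup_left : (S₀ : Subgroup M) ≤ (S₀ : Subgroup M) ⊔ O)]
    exact sup_le le_sup_left (sup_le (le_normalizer.trans le_sup_left) le_sup_right)
  intro m hm
  obtain ⟨k, hk, n, hn, hkn⟩ := (Coprime.mem_sup_iff
    (le_top.trans (normalizer_eq_top (H := O)).ge)).mp
      ((sup_comm _ _).trans htop ▸ mem_top (⟨m, hm⟩ : M))
  refine ⟨k, ⟨k, hk, rfl⟩, n, n.2, ?_, congrArg Subtype.val hkn⟩
  refine mem_normalizer_iff.mpr fun y => ?_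
  rw [← hS₀]
  constructor
  · rintro ⟨u, hu, rfl⟩
    exact ⟨n * u * n⁻¹, (mem_normalizer_iff.mp hn u).mp hu, rfl⟩
  · rintro ⟨u, hu, hue⟩
    exact ⟨n⁻¹ * u * n⁻¹⁻¹, (mem_normalizer_iff.mp (inv_mem hn) u).mp hu, by
      show (n : G)⁻¹ * u * ((n : G)⁻¹)⁻¹ = y
      rw [show (u : G) = (n : G) * y * (n : G)⁻¹ from hue]
      group⟩

/-- If every noncentral element of `P₁` keeps `C_{H_α}` inside `M` then `H = M`. -/
theorem eq_of_key {M H S P₁ : Subgroup G} (hM : IsCoatom M) (hH : IsCoatom H)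
    (hHs : p ∈ Cfsg.sigma H) (hS : IsSylowOf p S H) (hNS : normalizer (S : Set G) ≤ M)
    (ha : p ∉ Cfsg.alpha H) (hP₁S : P₁ ≤ S) (hna : ¬ IsMulCommutative P₁)
    (hc : Nat.card P₁ = p ^ 3) (hexp : ∀ x ∈ P₁, x ^ p = 1)
    (key : ∀ a ∈ P₁, a ∉ centralizer (P₁ : Set G) → normalizer (zpowers a : Set G) ≤ M) : H = M := by
  have hp' : p.Prime := hp.out
  set K := Cfsg.alphaCore H with hK
  have hKH : K ≤ H := map_subtype_le _
  have hKn : H ≤ normalizer (K : Set G) := OddOrder.le_normalizer_piCoreOf (Cfsg.alpha H) H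
  have hP₁n : P₁ ≤ normalizer (K : Set G) := (hP₁S.trans hS.1).trans hKn
  have hKp : ¬ p ∣ Nat.card K := fun hd => ha (OddOrder.piCoreOf_isPiNumber (Cfsg.alpha H) H p hp' hd)
  set Z := P₁ ⊓ centralizer (P₁ : Set G) with hZ
  have hZc : Nat.card Z = p := card_inf_centralizer_of_card_cube hna hc
  have hkey : ∀ a ∈ P₁, a ∉ Z → ∀ x ∈ K, a * x = x * a → x ∈ M := by
    intro a haP haZ x _ hax
    refine key a haP (fun h => haZ ⟨haP, h⟩) (centralizer_le_normalizer (s := (zpowers a : Set G)) ?_)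
    refine mem_centralizer_iff.mpr fun b hb => ?_
    obtain ⟨i, rfl⟩ := mem_zpowers_iff.mp hb
    exact (Commute.zpow_left (show Commute a x from hax) i).eq
  -- `C_K(Z) ≤ M`, through the elementary group `P₁ / Z`
  have hC : K ⊓ centralizer (Z : Set G) ≤ M := by
    set X := centralizer (Z : Set G) with hX
    have hP₁X : P₁ ≤ X := le_centralizer_iff.mpr inf_le_right
    have hZX : Z ≤ X := inf_le_left.trans hP₁X
    set Z' := Z.subgroupOf X with hZ'
    haveI : Z'.Normal := (normal_subgroupOf_iff_le_normalizer hZX).mpr (centralizer_le_normalizer _)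
    set π := QuotientGroup.mk' Z' with hπ
    set A := (P₁.subgroupOf X).map π with hA
    set C := ((K ⊓ X).subgroupOf X).map π with hCdef
    have hmemZ : ∀ u : X, π u = 1 ↔ (u : G) ∈ Z := fun u => QuotientGroup.eq_one_iff u
    have hder : ∀ x ∈ P₁, ∀ y ∈ P₁, ⁅x, y⁆ ∈ Z := by
      intro x hx y hy
      have hidx : (center ↥P₁).index ∣ p ^ 2 := by
        have h1 : Nat.card (center ↥P₁) * (center ↥P₁).index = p ^ 3 := by rw [card_mul_index, hc]
        obtain ⟨k, hk2, hk⟩ := (Nat.dvd_prime_pow hp').mp (hc ▸ (center ↥P₁).index_dvd_card)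
        refine hk ▸ pow_dvd_pow p ?_
        by_contra hlt
        have hk3 : k = 3 := by omega
        rw [hk, hk3] at h1
        haveI : Nontrivial P₁ := Finite.one_lt_card_iff_nontrivial.mp
          (by rw [hc]; exact Nat.one_lt_pow (by norm_num) hp'.one_lt)
        haveI := (IsPGroup.of_card hc : IsPGroup p P₁).center_nontrivial
        have h2 := Finite.one_lt_card (α := center ↥P₁)
        nlinarith [pow_pos hp'.pos 3]
      have h3 := PGroups.commutator_le_of_index_dvd_sq (center ↥P₁) hidx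
        (commutator_mem_commutator (mem_top (⟨x, hx⟩ : P₁)) (mem_top ⟨y, hy⟩))
      exact ⟨P₁.mul_mem (P₁.mul_mem (P₁.mul_mem hx hy) (P₁.inv_mem hx)) (P₁.inv_mem hy),
        mem_centralizer_iff.mpr fun z hz => congrArg Subtype.val (mem_center_iff.mp h3 ⟨z, hz⟩)⟩
    have hAe : Cfsg.IsElementaryAbelian p A := by
      refine ⟨⟨⟨fun u v => Subtype.ext ?_⟩⟩, ?_⟩
      · obtain ⟨x, hx, hxu⟩ := u.2
        obtain ⟨y, hy, hyv⟩ := v.2
        show (u : X ⧸ Z') * v = v * u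
        rw [← hxu, ← hyv, ← commutatorElement_eq_one_iff_mul_comm, ← map_commutatorElement, hmemZ]
        exact hder _ hx _ hy
      · rintro _ ⟨x, hx, rfl⟩
        rw [← map_pow, hmemZ]
        show (x : G) ^ p ∈ Z
        rw [hexp (x : G) hx]
        exact one_mem _
    have hA2 : Nat.card A = p ^ 2 := by
      rw [hA, hπ, Cores.card_map_mk', hZ', relIndex_subgroupOf hP₁X]
      have h1 : Nat.card Z * Z.relIndex P₁ = p ^ 3 := by
        rw [← relIndex_bot_left, ← hc, ← relIndex_bot_left,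
          relIndex_mul_relIndex _ _ _ bot_le inf_le_left]
      rw [hZc] at h1
      exact Nat.eq_of_mul_eq_mul_left hp'.pos (h1.trans (by ring))
    have hCcard : ¬ p ∣ Nat.card C := fun hd => hKp ((hd.trans (card_map_dvd _ π)).trans
      ((dvd_of_eq (Nat.card_congr (subgroupOfEquivOfLe inf_le_right).toEquiv)).trans
        (card_dvd_of_le inf_le_left)))
    have hAC : A ≤ normalizer (C : Set (X ⧸ Z')) := by
      rintro _ ⟨x, hx, rfl⟩
      refine le_normalizer_map π ⟨x, mem_normalizer_iff.mpr fun h => ?_, rfl⟩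
      have h1 : (x : G) ∈ normalizer ((K ⊓ X : Subgroup G) : Set G) :=
        inf_normalizer_le_normalizer_inf ⟨hP₁n hx, le_normalizer (hP₁X hx)⟩
      exact mem_normalizer_iff.mp h1 (h : G)
    have hle : C ≤ ((M.subgroupOf X).map π) := by
      refine le_of_lines hAe hA2 hCcard hAC fun A₀ hA₀ hA₀c => ?_
      obtain ⟨⟨u, hu⟩, hu1⟩ := (A₀.ne_bot_iff_exists_ne_one).mp (ne_bot_of_card (hA₀c ▸ hp'.one_lt))
      obtain ⟨a, ha', rfl⟩ := hA₀ hu
      have haZ : (a : G) ∉ Z := fun h => hu1 (Subtype.ext ((hmemZ a).mpr h))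
      rintro _ ⟨⟨c, hc', rfl⟩, hcc⟩
      refine ⟨c, hkey _ ha' haZ _ hc'.1 ?_, rfl⟩
      have h1 : π ⁅a, c⁆ = 1 := by
        rw [map_commutatorElement, commutatorElement_eq_one_iff_mul_comm]
        exact mem_centralizer_iff.mp hcc (π a) hu
      have h2 : ⁅(a : G), (c : G)⁆ ∈ K := by
        rw [commutatorElement_def]
        exact K.mul_mem ((mem_normalizer_iff.mp (hP₁n ha') _).mp hc'.1) (K.inv_mem hc'.1)
      have h3 : ⁅(a : G), (c : G)⁆ ∈ Z := (hmemZ ⁅a, c⁆).mp h1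
      have h4 : K ⊓ Z = ⊥ := Coprime.inf_eq_bot (by
        rw [hZc, Nat.coprime_comm]; exact hp'.coprime_iff_not_dvd.mpr hKp)
      exact commutatorElement_eq_one_iff_mul_comm.mp (mem_bot.mp (h4 ▸ ⟨h2, h3⟩))
    intro c hc'
    obtain ⟨m, hm, hmc⟩ := hle ⟨⟨c, hc'.2⟩, hc', rfl⟩
    have h1 : π (m⁻¹ * ⟨c, hc'.2⟩) = 1 := by rw [map_mul, map_inv, hmc, inv_mul_cancel]
    have h2 : (m : G)⁻¹ * c ∈ M := (inf_le_left.trans ((hP₁S.trans le_normalizer).trans hNS) : Z ≤ M)
      ((hmemZ _).mp h1)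
    simpa using M.mul_mem (show (m : G) ∈ M from hm) h2
  -- `K ≤ M`
  have hKM : K ≤ M := by
    obtain ⟨a, haP, haZ⟩ : ∃ a ∈ P₁, a ∉ Z := by
      by_contra hno
      push Not at hno
      have := card_le_of_le (hno : P₁ ≤ Z)
      rw [hc, hZc] at this
      nlinarith [hp'.one_lt, pow_lt_pow_right₀ hp'.one_lt (show 1 < 3 by norm_num)]
    have hna' : zpowers a ⊓ Z = ⊥ := by
      refine eq_bot_iff.mpr fun y hy => ?_
      obtain ⟨i, rfl⟩ := mem_zpowers_iff.mp hy.1
      rw [mem_bot]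
      by_contra hy1
      have hao : orderOf a = p := orderOf_eq_prime (hexp a haP) fun e => haZ (e ▸ one_mem _)
      have h1 : zpowers (a ^ i) = zpowers a := by
        refine eq_of_le_of_card_ge (zpowers_le.mpr (zpow_mem (mem_zpowers a) i)) ?_
        rw [Nat.card_zpowers, Nat.card_zpowers, hao, orderOf_eq_prime (hexp _ (zpow_mem haP i)) hy1]
      exact haZ ((zpowers_le.mpr hy.2) (h1.ge (mem_zpowers a)))
    have hZn : Z ≤ normalizer (zpowers a : Set G) := fun z hz =>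
      centralizer_le_normalizer (s := (zpowers a : Set G)) (Subgroup.centralizer_le (zpowers_le.mpr haP) hz.2)
    have hA : Cfsg.IsElementaryAbelian p (zpowers a ⊔ Z : Subgroup G) := by
      refine BG5.elementary_sup (BG5.elementary_zpowers (hexp a haP))
        ⟨⟨⟨fun u v => Subtype.ext (mem_centralizer_iff.mp v.2.2 u u.2.1)⟩⟩, fun z hz => hexp z hz.1⟩
        fun z hz => Subgroup.centralizer_le (zpowers_le.mpr haP) hz.2
    have hA2 : Nat.card ↥(zpowers a ⊔ Z) = p ^ 2 := by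
      rw [Coprime.card_sup hZn hna', hZc, Nat.card_zpowers,
        orderOf_eq_prime (hexp a haP) (fun e => haZ (e ▸ one_mem _)), sq]
    refine le_of_lines hA hA2 hKp ((sup_le (zpowers_le.mpr haP) inf_le_left).trans hP₁n)
      fun A₀ hA₀ hA₀c => ?_
    by_cases h0 : A₀ ≤ Z
    · rw [eq_of_le_of_card_ge h0 (hZc.trans hA₀c.symm).le]
      exact hC
    obtain ⟨u, hu, huZ⟩ := SetLike.not_le_iff_exists.mp h0
    exact fun x hx => hkey u ((sup_le (zpowers_le.mpr haP) inf_le_left) (hA₀ hu)) huZ x hx.1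
      (mem_centralizer_iff.mp hx.2 u hu)
  refine (hH.le_iff.mp ?_).resolve_left hM.1 |>.symm
  intro h hh
  obtain ⟨k, hk, n, -, hn, rfl⟩ := S10.exists_alpha_mul_normalizer hH hHs hS h hh
  exact M.mul_mem (hKM hk) (hNS hn)

/-- BG 12.13. -/
theorem inUniqueMaximal_of_nonabelian {P : Subgroup G} (hP : IsPGroup p P)
    (hna : ¬ IsMulCommutative P) : Cfsg.InUniqueMaximal P := by
  have hG := S10.minSimple
  have hp' : p.Prime := hp.out
  have hPtop : P ≠ ⊤ := H41.ne_top_of_isPGroup hG.2 hP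
  obtain ⟨M, hM, hPM⟩ := exists_coatom_ge hPtop
  refine ⟨M, ⟨hM, hPM⟩, fun L ⟨hL, hPL⟩ => ?_⟩
  by_contra hne
  obtain ⟨S, hS, hPS⟩ := exists_sylowOf_ge' hP (le_inf hPM hPL : P ≤ M ⊓ L)
  have hSna : ¬ IsMulCommutative S := fun h => hna (isMulCommutative_of_le h hPS)
  have hsM := S10.sigma_of_nonabelian hM hS.2.1 (hS.1.trans inf_le_left) hSna
  have hsL := S10.sigma_of_nonabelian hL hS.2.1 (hS.1.trans inf_le_right) hSna
  have hNM := S10.normalizer_le_of_not_isCyclic hM hsM hS.2.1 (hS.1.trans inf_le_left)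
    (not_isCyclic_of_nonabelian hSna)
  have hNL := S10.normalizer_le_of_not_isCyclic hL hsL hS.2.1 (hS.1.trans inf_le_right)
    (not_isCyclic_of_nonabelian hSna)
  -- `S` is a Sylow subgroup of `G`
  obtain ⟨T, hT⟩ := hS.2.1.exists_le_sylow
  have hST : S = (T : Subgroup G) := by
    by_contra hST
    obtain ⟨g, hgT, hgS, hgn⟩ : ∃ g ∈ (T : Subgroup G), g ∉ S ∧ g ∈ normalizer (S : Set G) := by
      have hlt : S.subgroupOf (T : Subgroup G) ≠ ⊤ := fun e =>
        hST (le_antisymm hT (subgroupOf_eq_top.mp e))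
      obtain ⟨g, hg, hgS⟩ := SetLike.exists_of_lt (PGroups.lt_normalizer T.isPGroup' hlt)
      exact ⟨g, g.2, hgS, by
        rw [← subgroupOf_normalizer_eq hT] at hg
        exact hg⟩
    have hX : IsPGroup p ↥(S ⊔ zpowers g) :=
      T.isPGroup'.to_le (sup_le hT (zpowers_le.mpr hgT))
    have h1 := hS.eq_of_le hX le_sup_left
      (sup_le hS.1 (zpowers_le.mpr ⟨hNM hgn, hNL hgn⟩))
    exact hgS (h1 ▸ mem_sup_right (mem_zpowers g))
  have hSM : IsSylowOf p S M :=
    isSylowOf_mono (hST ▸ isSylowOf_top T) (hS.1.trans inf_le_left) le_top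
  have hSL : IsSylowOf p S L :=
    isSylowOf_mono (hST ▸ isSylowOf_top T) (hS.1.trans inf_le_right) le_top
  have haM : p ∉ Cfsg.alpha M := fun h => hne (eq_of_inUniqueMaximal
    (S10.inUniqueMaximal_sylow_alpha hM h hSM) hM hSM.1 hL hSL.1)
  have haL : p ∉ Cfsg.alpha L := fun h => hne (eq_of_inUniqueMaximal
    (S10.inUniqueMaximal_sylow_alpha hL h hSL) hM hSM.1 hL hSL.1)
  have hr : Cfsg.PRankLE p 2 (T : Subgroup G) :=
    pRankLE_of_le (hST ▸ hSM.1) (BG10.pRankLE_two_of_not_alpha hp' haM)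
  obtain ⟨P₁, P₂, hsup, -, hna₁, hc₁, hexp₁, -, -⟩ :=
    (S10.sylow_rank_two p T hr).resolve_left (hST ▸ hSna)
  have hP₁S : P₁ ≤ S := hST ▸ hsup ▸ le_sup_left
  have hexp : ∀ x ∈ P₁, x ^ p = 1 := fun x hx => by
    have := Monoid.pow_exponent_eq_one (⟨x, hx⟩ : P₁)
    rw [hexp₁] at this
    simpa using congrArg Subtype.val this
  set Z := P₁ ⊓ centralizer (P₁ : Set G) with hZ
  have hZc : Nat.card Z = p := card_inf_centralizer_of_card_cube hna₁ hc₁
  -- some line is unique for each of `M` and `L`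
  have hline : ∀ N : Subgroup G, IsCoatom N → p ∈ Cfsg.sigma N → IsSylowOf p S N →
      (∀ X : Subgroup G, IsCoatom X → normalizer (S : Set G) ≤ X → X ≠ N → False) ∨
      ∀ a ∈ P₁, a ∉ Z → ∃ A' ≤ zpowers a ⊔ Z, Nat.card A' = p ∧ normalizer (A' : Set G) ≤ N ∧
        ∀ X : Subgroup G, IsCoatom X → normalizer (A' : Set G) ≤ X → X = N := by
    intro N hN hsN hSN
    by_cases hnil : Group.IsNilpotent (Cfsg.sigmaCore N)
    · left
      intro X hX hle hXN
      have e := S10.normalizer_sylow_of_nilpotent hN hsN hnil hSN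
      exact hXN ((hN.le_iff.mp (e ▸ hle)).resolve_left hX.1)
    right
    intro a ha haZ
    have hZn : Z ≤ normalizer (zpowers a : Set G) := fun z hz =>
      centralizer_le_normalizer (s := (zpowers a : Set G)) (Subgroup.centralizer_le (zpowers_le.mpr ha) hz.2)
    have hao : orderOf a = p := orderOf_eq_prime (hexp a ha) fun e => haZ (e ▸ one_mem _)
    have hd : zpowers a ⊓ Z = ⊥ := by
      refine eq_bot_iff.mpr fun y hy => ?_
      rw [mem_bot]
      by_contra hy1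
      have h1 : zpowers y = zpowers a := eq_of_le_of_card_ge (zpowers_le.mpr hy.1) (by
        rw [Nat.card_zpowers, Nat.card_zpowers, hao, orderOf_eq_prime (hexp y hy.2.1) hy1])
      exact haZ ((zpowers_le.mpr hy.2) (h1.ge (mem_zpowers a)))
    have hAe : Cfsg.IsElementaryAbelian p (zpowers a ⊔ Z : Subgroup G) :=
      BG5.elementary_sup (BG5.elementary_zpowers (hexp a ha))
        ⟨⟨⟨fun u v => Subtype.ext (mem_centralizer_iff.mp v.2.2 u u.2.1)⟩⟩, fun z hz => hexp z hz.1⟩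
        fun z hz => Subgroup.centralizer_le (zpowers_le.mpr ha) hz.2
    have hA2 : Nat.card ↥(zpowers a ⊔ Z) = p ^ 2 := by
      rw [Coprime.card_sup hZn hd, hZc, Nat.card_zpowers, hao, sq]
    by_contra hno
    push Not at hno
    refine hnil ((S10.line_cases hN ⟨(sup_le (zpowers_le.mpr ha) inf_le_left).trans
      (hP₁S.trans hSN.1), hAe, hA2⟩).2 fun A₀ h₀ h₀c ⟨h1, h2⟩ => ?_).2.2
    obtain ⟨X, hX, hle, hXN⟩ := hno A₀ h₀ h₀c h1
    exact hXN (h2 X hX hle)
  have hlM := (hline M hM hsM hSM).resolve_left fun h => h L hL hNL hne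
  have hlL := (hline L hL hsL hSL).resolve_left fun h => h M hM hNM (Ne.symm hne)
  have hmove : ∀ N : Subgroup G, S ≤ N → ∀ a ∈ P₁, a ∉ Z → ∀ A' ≤ zpowers a ⊔ Z, Nat.card A' = p →
      A' ≠ Z → normalizer (A' : Set G) ≤ N → normalizer (zpowers a : Set G) ≤ N := by
    intro N hSN a ha haZ A' hA' hA'c hA'Z hle
    have hao : orderOf a = p := orderOf_eq_prime (hexp a ha) fun e => haZ (e ▸ one_mem _)
    obtain ⟨g, hg, he⟩ := exists_cj_line hna₁ hc₁ (zpowers_le.mpr ha)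
      (by rw [Nat.card_zpowers, hao]) (fun e => haZ (e.le (mem_zpowers a))) hA' hA'c hA'Z
    rw [← he, ← cj_normalizer] at hle
    intro x hx
    have hgN : g ∈ N := hSN (hP₁S hg)
    have h1 := hle (conj_mem_cj g hx)
    have h2 := N.mul_mem (N.mul_mem (N.inv_mem hgN) h1) hgN
    simpa [mul_assoc] using h2
  by_cases hZL : normalizer (Z : Set G) ≤ L ∧
      ∀ X : Subgroup G, IsCoatom X → normalizer (Z : Set G) ≤ X → X = L
  · refine hne (S10.eq_of_key hM hL hsL hSL hNM haL hP₁S hna₁ hc₁ hexp fun a ha hac => ?_)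
    have haZ : a ∉ Z := fun h => hac h.2
    obtain ⟨A', hA', hA'c, hle, -⟩ := hlM a ha haZ
    refine hmove M hSM.1 a ha haZ A' hA' hA'c (fun e => hne ?_) hle
    subst e
    exact (hZL.2 M hM hle).symm
  · refine hne (S10.eq_of_key hL hM hsM hSM hNL haM hP₁S hna₁ hc₁ hexp fun a ha hac => ?_).symm
    have haZ : a ∉ Z := fun h => hac h.2
    obtain ⟨A', hA', hA'c, hle, huniq⟩ := hlL a ha haZ
    exact hmove L hSL.1 a ha haZ A' hA' hA'c (fun e => hZL ⟨e ▸ hle, e ▸ huniq⟩) hle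

end Section10

end Cfsg.Agent.OddOrder.BG11
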